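import Cfsg.Agent.Lib.Spor.L43Three.Inverted.Main
import Cfsg.Agent.S0077
import Cfsg.Agent.S0080
import Cfsg.Agent.Lib.Invol.G23Am.Tools

/-!
Consequences: a group whose Sylow normaliser is `P ∪ Pt` in the inverted situation has a normal subgroup of order
prime to three with `P ∪ Pt` as supplement.
-/

set_option autoImplicit false
set_option linter.unusedSectionVars false
set_option linter.style.haveILetI false

namespace Cfsg.Agent.Spor.L43Three.Inverted

open Subgroup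
open scoped commutatorElement

universe u

variable {K : Type u} [Group K] [Finite K]

/-- A normal three-complement made of all elements of order prime to three. -/
def NormalCompl (P : Subgroup K) : Prop :=
  ∃ O : Subgroup K, O.Normal ∧ (Nat.card O).Coprime 3 ∧ (∀ k, ∃ o ∈ O, ∃ p ∈ P, k = o * p) ∧
    ∀ x : K, (orderOf x).Coprime 3 → x ∈ O

theorem burnside (P : Sylow 3 K) (h : normalizer ((P : Subgroup K) : Set K) ≤ centralizer ((P : Subgroup K) : Set K)) :
    NormalCompl (P : Subgroup K) := by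
  haveI : Fact (Nat.Prime 3) := ⟨Nat.prime_three⟩
  obtain ⟨O, hO, hc, h3, hall⟩ := Invol.G23Am.exists_complement P h
  refine ⟨O, hO, Nat.coprime_comm.1 (Nat.prime_three.coprime_iff_not_dvd.2 h3), fun k => ?_, hall⟩
  obtain ⟨⟨⟨o, ho⟩, ⟨p, hp⟩⟩, e⟩ := (isComplement'_def.mp hc).2 k
  exact ⟨o, ho, p, hp, e.symm⟩

theorem mem_normalizer_conj {P : Subgroup K} {g a : K} (hg : g ∈ normalizer (P : Set K)) (ha : a ∈ P) :
    g * a * g⁻¹ ∈ P := (mem_normalizer_iff.1 hg a).1 ha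

/-- Grün's step for an isolated central element in an abelian derived group. -/
theorem isolated_compl (P : Sylow 3 K) (z : K) (hz : ∀ p ∈ (P : Subgroup K), Commute z p)
    (hzD : z ∈ ⁅(P : Subgroup K), (P : Subgroup K)⁆)
    (hiso : ∀ g : K, g * z * g⁻¹ ∈ (P : Subgroup K) → g ∈ (P : Subgroup K))
    (hab : ∀ a ∈ ⁅(P : Subgroup K), (P : Subgroup K)⁆, ∀ b ∈ ⁅(P : Subgroup K), (P : Subgroup K)⁆, Commute a b) :
    NormalCompl (P : Subgroup K) := by
  haveI : Fact (Nat.Prime 3) := ⟨Nat.prime_three⟩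
  set D := ⁅(P : Subgroup K), (P : Subgroup K)⁆
  have hDP : D ≤ (P : Subgroup K) := commutator_le.2 fun a ha b hb => by
    rw [commutatorElement_def]; exact mul_mem (mul_mem (mul_mem ha hb) (inv_mem ha)) (inv_mem hb)
  have hzP : z ∈ (P : Subgroup K) := hDP hzD
  have hW : Cfsg.IsWeaklyClosed (zpowers z) (P : Subgroup K) := by
    refine ⟨zpowers_le.2 hzP, fun g hg => ?_⟩
    have hgP := hiso g (hg ⟨z, mem_zpowers z, rfl⟩)
    rw [MonoidHom.map_zpowers]
    show zpowers (g * z * g⁻¹) = zpowers z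
    rw [← (hz g hgP).eq, mul_inv_cancel_right]
  have hN : normalizer ((zpowers z : Subgroup K) : Set K) ≤ (P : Subgroup K) := fun g hg =>
    hiso g (zpowers_le.2 hzP (mem_normalizer_conj hg (mem_zpowers z)))
  have hG := Cfsg.Agent.S0077.result P (zpowers z)
    (zpowers_le.2 (mem_centralizer_iff.2 fun p hp => ((hz p hp).eq).symm)) hW
  have hPN : (P : Subgroup K) ≤ normalizer ((zpowers z : Subgroup K) : Set K) := fun p hp =>
    mem_normalizer_fintype fun x hx => by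
      obtain ⟨i, rfl⟩ := mem_zpowers_iff.1 hx
      show p * z ^ i * p⁻¹ ∈ zpowers z
      rw [((hz p hp).symm.zpow_right i).eq, mul_inv_cancel_right]
      exact zpow_mem (mem_zpowers z) i
  rw [le_antisymm hN hPN, inf_eq_left.2 hDP] at hG
  obtain ⟨-, N, hNn, hNP, hNtop⟩ := Cfsg.Agent.S0080.result (P : Subgroup K) (by
    obtain ⟨k, hk⟩ := IsPGroup.iff_card.1 P.isPGroup'
    have h1 : D.relIndex (P : Subgroup K) ∣ 3 ^ k := by
      rw [← hk]; exact index_dvd_card _
    exact ((Nat.prime_three.coprime_iff_not_dvd.2 P.not_dvd_index).symm.pow_right k).coprime_dvd_right h1)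
  rw [hG] at hNP
  haveI := hNn
  have hDN : D ≤ N := hNP ▸ inf_le_left
  -- the derived group is a Sylow subgroup of `N`
  set D' := D.subgroupOf N
  have hD'3 : IsPGroup 3 D' :=
    (P.isPGroup'.to_le hDP).of_injective ((subgroupOfEquivOfLe hDN).toMonoidHom) (MulEquiv.injective _)
  have hidx : ¬ 3 ∣ D'.index := by
    have hc := Cfsg.Agent.Grp.card_sup_mul_card_inf_normal (H := (P : Subgroup K)) (N := N)
    rw [sup_comm, hNtop, card_top, inf_comm, hNP] at hc
    have h1 := D'.card_mul_index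
    rw [Nat.card_congr (subgroupOfEquivOfLe hDN).toEquiv] at h1
    have h2 := (P : Subgroup K).card_mul_index
    rw [← h2, ← h1] at hc
    have h3 : (P : Subgroup K).index = D'.index := Nat.eq_of_mul_eq_mul_left
      (Nat.mul_pos (Nat.card_pos (α := (P : Subgroup K))) (Nat.card_pos (α := D))) (by linarith)
    rw [← h3]
    exact P.not_dvd_index
  set T : Sylow 3 N := hD'3.toSylow hidx
  have hTN : normalizer ((T : Subgroup N) : Set N) ≤ centralizer ((T : Subgroup N) : Set N) := by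
    intro g hg
    have hgz : (g : K) * z * (g : K)⁻¹ ∈ (P : Subgroup K) :=
      hDP (mem_normalizer_conj (P := D') (g := g) (a := ⟨z, hDN hzD⟩) hg hzD)
    have hgD : (g : K) ∈ D := hNP ▸ (show (g : K) ∈ N ⊓ (P : Subgroup K) from ⟨g.2, hiso _ hgz⟩)
    exact mem_centralizer_iff.2 fun x hx => Subtype.ext (hab _ hgD _ hx).eq.symm
  obtain ⟨O, hOn, hO3, hOdec, hOall⟩ := burnside T hTN
  refine ⟨O.map N.subtype, ⟨?_⟩, by rwa [card_map_of_injective N.subtype_injective], fun k => ?_, fun x hx => ?_⟩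
  · rintro _ ⟨o, ho, rfl⟩ g
    refine ⟨⟨g * o * g⁻¹, hNn.conj_mem _ o.2 g⟩, hOall _ ?_, rfl⟩
    rw [← Subgroup.orderOf_coe]
    show (orderOf (g * (o : K) * g⁻¹)).Coprime 3
    rw [show g * (o : K) * g⁻¹ = MulAut.conj g o from rfl, MulEquiv.orderOf_eq, Subgroup.orderOf_coe]
    exact hO3.coprime_dvd_left (Subgroup.orderOf_dvd_natCard O ho)
  · obtain ⟨n, hn, p, hp, rfl⟩ := mem_sup_of_normal_left.1 (show k ∈ N ⊔ (P : Subgroup K) from hNtop.ge (mem_top k))
    obtain ⟨o, ho, d, hd, e⟩ := hOdec ⟨n, hn⟩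
    exact ⟨o, ⟨o, ho, rfl⟩, (d : K) * p, mul_mem (hDP hd) hp,
      by rw [show n = (o : K) * (d : K) from congrArg Subtype.val e, mul_assoc]⟩
  · have hxN : x ∈ N := by
      obtain ⟨k, hk⟩ := IsPGroup.iff_card.1 P.isPGroup'
      have h1 : orderOf (QuotientGroup.mk' N x) ∣ orderOf x := orderOf_map_dvd _ x
      have h2 : orderOf (QuotientGroup.mk' N x) ∣ 3 ^ k := by
        obtain ⟨n, hn, p, hp, e⟩ := mem_sup_of_normal_left.1 (show x ∈ N ⊔ (P : Subgroup K) from hNtop.ge (mem_top x))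
        rw [← e, map_mul, show QuotientGroup.mk' N n = 1 from (QuotientGroup.eq_one_iff n).2 hn, one_mul, ← hk]
        exact (orderOf_map_dvd _ p).trans (Subgroup.orderOf_dvd_natCard _ hp)
      exact (QuotientGroup.eq_one_iff x).1 (orderOf_eq_one_iff.1
        (Nat.eq_one_of_dvd_coprimes (hx.pow_right k) h1 h2))
    exact ⟨⟨x, hxN⟩, hOall _ (by rwa [Subgroup.orderOf_mk]), rfl⟩

variable {n : ℕ} {P : Sylow 3 K}

/-- The conclusion from the inverted data. -/
theorem Inv.exists_core [Fintype K] (D : Inv P n) {Kc A : ℤ} (hg : Good n Kc A) (a e : (P : Subgroup K))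
    (ha3 : (a : K) ^ 3 = 1) (he3 : (e : K) ^ 3 = 1) (ha : D.φ a ≠ 1) (heinv : IsConj (e : K)⁻¹ e)
    (hind : ∀ k : ZMod 3, D.co e ≠ k • D.co a) (hca : ∀ c : K, Commute c a → c ∈ (P : Subgroup K))
    (hcard : Nat.card (centralizer ({(a : K)} : Set K)) = 3 ^ n)
    (hker : ∀ x : (P : Subgroup K), x ≠ 1 → D.φ x = 1 → Commute (x : K) a → RegCompl (P : Subgroup K) (x : K))
    (hgen : (P : Subgroup K) ≤ closure {y | ∃ q ∈ (P : Subgroup K), y = q⁻¹ * (D.t * q * D.t⁻¹)})
    (hnorm : ∀ g ∈ normalizer ((P : Subgroup K) : Set K),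
      g ∈ (P : Subgroup K) ∨ ∃ p ∈ (P : Subgroup K), g = p * D.t)
    (hsplit : (∀ x ∈ (P : Subgroup K), ∀ y ∈ (P : Subgroup K), Commute x y) ∨
      ∃ z : K, (∀ p ∈ (P : Subgroup K), Commute z p) ∧ z ∈ ⁅(P : Subgroup K), (P : Subgroup K)⁆ ∧
        (∀ g : K, g * z * g⁻¹ ∈ (P : Subgroup K) → g ∈ (P : Subgroup K) ∨ ∃ p ∈ (P : Subgroup K), g = p * D.t) ∧
        ∀ a ∈ ⁅(P : Subgroup K), (P : Subgroup K)⁆, ∀ b ∈ ⁅(P : Subgroup K), (P : Subgroup K)⁆, Commute a b) :
    ∃ O : Subgroup K, O.Normal ∧ (Nat.card O).Coprime 3 ∧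
      ∀ k, ∃ o ∈ O, ∃ p ∈ (P : Subgroup K), k = o * p ∨ k = o * p * D.t := by
  haveI : Fact (Nat.Prime 3) := ⟨Nat.prime_three⟩
  set M := normalClosure ((P : Subgroup K) : Set K)
  have hPM : (P : Subgroup K) ≤ M := subset_normalClosure
  have htop := Sylow.normalizer_sup_eq_top' P hPM
  have htM : D.t ∉ M := by
    intro ht
    obtain ⟨N, hN, hNt, hPN⟩ := D.exists_proper_normal hg a e ha3 he3 ha heinv hind hca hcard hker hgen
    refine hNt (top_le_iff.1 ?_)
    have hM : M ≤ N := normalClosure_le_normal hPN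
    refine htop.ge.trans (sup_le (fun g hg' => ?_) hM)
    rcases hnorm g hg' with h | ⟨p, hp, rfl⟩
    · exact hPN h
    · exact mul_mem (hPN hp) (hM ht)
  let PM : Sylow 3 M := P.subtype hPM
  have hmem : ∀ c : M, c ∈ (PM : Subgroup M) ↔ (c : K) ∈ (P : Subgroup K) := fun c => by
    rw [Sylow.coe_subtype]; rfl
  have hside : ∀ g : M, ((g : K) ∈ (P : Subgroup K) ∨ ∃ p ∈ (P : Subgroup K), (g : K) = p * D.t) →
      g ∈ (PM : Subgroup M) := by
    rintro g (h | ⟨p, hp, h⟩)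
    · exact (hmem g).2 h
    · refine absurd ?_ htM
      have := mul_mem (inv_mem (hPM hp)) g.2
      rwa [h, inv_mul_cancel_left] at this
  have hcompl : NormalCompl (PM : Subgroup M) := by
    rcases hsplit with hab | ⟨z, hz, hzD, hiso, hab⟩
    · refine burnside PM fun g hg' => ?_
      have hgN : (g : K) ∈ normalizer ((P : Subgroup K) : Set K) := mem_normalizer_fintype fun x hx =>
        (hmem _).1 (mem_normalizer_conj hg' ((hmem ⟨x, hPM hx⟩).2 hx))
      have hgP := (hmem g).1 (hside g (hnorm _ hgN))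
      exact mem_centralizer_iff.2 fun x hx => Subtype.ext (hab _ ((hmem x).1 hx) _ hgP).eq
    · have hzP : z ∈ (P : Subgroup K) := (commutator_le.2 fun x hx y hy => by
        rw [commutatorElement_def]; exact mul_mem (mul_mem (mul_mem hx hy) (inv_mem hx)) (inv_mem hy)) hzD
      have hmap : ⁅(PM : Subgroup M), (PM : Subgroup M)⁆.map M.subtype = ⁅(P : Subgroup K), (P : Subgroup K)⁆ := by
        rw [map_commutator, Sylow.coe_subtype, map_subgroupOf_eq_of_le hPM]
      refine isolated_compl PM ⟨z, hPM hzP⟩ (fun p hp => Subtype.ext (hz _ ((hmem p).1 hp))) ?_ (fun g h =>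
        hside g (hiso _ ((hmem _).1 h))) fun x hx y hy => Subtype.ext ?_
      · have := hzD
        rw [← hmap, mem_map] at this
        obtain ⟨w, hw, he⟩ := this
        rwa [show (⟨z, hPM hzP⟩ : M) = w from Subtype.ext he.symm]
      · exact hab _ (hmap ▸ mem_map_of_mem _ hx) _ (hmap ▸ mem_map_of_mem _ hy)
  obtain ⟨O, hOn, hO3, hOdec, hOall⟩ := hcompl
  haveI hMn : M.Normal := normalClosure_normal
  refine ⟨O.map M.subtype, ⟨?_⟩, by rwa [card_map_of_injective M.subtype_injective], fun k => ?_⟩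
  · rintro _ ⟨o, ho, rfl⟩ g
    refine ⟨⟨g * o * g⁻¹, hMn.conj_mem _ o.2 g⟩, hOall _ ?_, rfl⟩
    rw [← Subgroup.orderOf_coe]
    show (orderOf (g * (o : K) * g⁻¹)).Coprime 3
    rw [show g * (o : K) * g⁻¹ = MulAut.conj g o from rfl, MulEquiv.orderOf_eq, Subgroup.orderOf_coe]
    exact hO3.coprime_dvd_left (Subgroup.orderOf_dvd_natCard O ho)
  · obtain ⟨m, hm, c, hc, rfl⟩ :=
      mem_sup_of_normal_left.1 (show k ∈ M ⊔ normalizer ((P : Subgroup K) : Set K) by rw [sup_comm]; exact htop.ge (mem_top k))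
    obtain ⟨o, ho, d, hd, e'⟩ := hOdec ⟨m, hm⟩
    have hm' : m = (o : K) * (d : K) := congrArg Subtype.val e'
    rcases hnorm c hc with h | ⟨p, hp, rfl⟩
    · exact ⟨o, ⟨o, ho, rfl⟩, (d : K) * c, mul_mem ((hmem d).1 hd) h, Or.inl (by rw [hm', mul_assoc])⟩
    · exact ⟨o, ⟨o, ho, rfl⟩, (d : K) * p, mul_mem ((hmem d).1 hd) hp,
        Or.inr (by rw [hm']; simp only [mul_assoc])⟩

/-- The data from an isolated central element in the supplement `P ∪ P t`. -/
theorem exists_inv (φ : (P : Subgroup K) →* Multiplicative (Vec n)) (hφ : Function.Surjective φ) (t : K)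
    (ht : ∀ p ∈ (P : Subgroup K), t * p * t⁻¹ ∈ (P : Subgroup K))
    (htφ : ∀ p : (P : Subgroup K), φ ⟨t * p * t⁻¹, ht p p.2⟩ = (φ p)⁻¹)
    (z : K) (hzP : z ∈ (P : Subgroup K)) (hz : ∀ p ∈ (P : Subgroup K), Commute z p)
    (hiso : ∀ g : K, g * z * g⁻¹ ∈ (P : Subgroup K) → g ∈ (P : Subgroup K) ∨ ∃ p ∈ (P : Subgroup K), g = p * t)
    (habv : ∀ v x y : (P : Subgroup K), φ v ≠ 1 → Commute x v → Commute y v → Commute x y) :
    ∃ D : Inv P n, D.φ = φ ∧ D.t = t := by
  haveI : Fact (Nat.Prime 3) := ⟨Nat.prime_three⟩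
  have hne : ∀ v : (P : Subgroup K), φ v ≠ 1 → ∀ g : K, Commute g v →
      (g ∈ (P : Subgroup K) ∨ ∃ p ∈ (P : Subgroup K), g = p * t) → g ∈ (P : Subgroup K) := by
    rintro v hv g hgv (h | ⟨p, hp, rfl⟩)
    · exact h
    · refine absurd ?_ hv
      have he : (⟨p, hp⟩ : (P : Subgroup K)) * ⟨t * v * t⁻¹, ht v v.2⟩ * ⟨p, hp⟩⁻¹ = v := Subtype.ext (by
        show p * (t * v * t⁻¹) * p⁻¹ = v
        calc p * (t * v * t⁻¹) * p⁻¹ = p * t * v * (p * t)⁻¹ := by group
          _ = v := by rw [hgv.eq, mul_inv_cancel_right])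
      have h2 := congrArg (fun x => Multiplicative.toAdd (φ x)) he
      simp only [map_mul, map_inv, htφ, toAdd_mul, toAdd_inv] at h2
      refine Multiplicative.toAdd.injective (funext fun i => eq_zero_of_eq_neg _ ?_)
      have := congrFun h2 i
      simp only [Pi.add_apply, Pi.neg_apply] at this
      linear_combination -this
  have hsyl : ∀ v : (P : Subgroup K), φ v ≠ 1 → ∀ S : Subgroup K, IsPGroup 3 S →
      (P : Subgroup K) ⊓ centralizer ({(v : K)} : Set K) ≤ S → S ≤ centralizer ({(v : K)} : Set K) →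
      S = (P : Subgroup K) ⊓ centralizer ({(v : K)} : Set K) := by
    intro v hv S hS hJS hSC
    set J := (P : Subgroup K) ⊓ centralizer ({(v : K)} : Set K) with hJ
    have hzJ : z ∈ J := ⟨hzP, mem_centralizer_singleton_iff.2 (hz _ v.2).eq⟩
    by_contra hne'
    have hlt : J.subgroupOf S < ⊤ := lt_top_iff_ne_top.2 fun h =>
      hne' (le_antisymm (subgroupOf_eq_top.1 h) hJS)
    haveI : Group.IsNilpotent S := hS.isNilpotent
    obtain ⟨m, hm, hmJ⟩ := SetLike.exists_of_lt (normalizerCondition_of_isNilpotent (J.subgroupOf S) hlt)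
    have hmz : (m : K) * z * (m : K)⁻¹ ∈ J := mem_normalizer_conj (a := ⟨z, hJS hzJ⟩) hm hzJ
    exact hmJ ⟨hne v hv m (mem_centralizer_singleton_iff.1 (hSC m.2)) (hiso _ hmz.1), hSC m.2⟩
  refine ⟨⟨φ, hφ, t, ht, htφ, fun a b hab g hg => ?_, fun v hv => ?_⟩, rfl, rfl⟩
  · set C := centralizer ({(a : K)} : Set K) with hC
    set J := (P : Subgroup K) ⊓ C with hJdef
    obtain ⟨S, hS⟩ := ((P.isPGroup'.to_le (inf_le_left : J ≤ _)).comap_subtype (K := C)).exists_le_sylow
    have hSJ : ∀ x ∈ (S : Subgroup C), (x : K) ∈ J := by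
      intro x hx
      have := hsyl a hab ((S : Subgroup C).map C.subtype) (S.isPGroup'.map _)
        (fun y hy => ⟨⟨y, hy.2⟩, hS hy, rfl⟩) (map_subtype_le _)
      exact this.le ⟨x, hx, rfl⟩
    have hzb : g⁻¹ * z * g ∈ C := mem_centralizer_singleton_iff.2 (by
      calc g⁻¹ * z * g * a = g⁻¹ * (z * (g * a * g⁻¹)) * g := by group
        _ = g⁻¹ * ((g * a * g⁻¹) * z) * g := by rw [hg, (hz _ b.2).eq]
        _ = a * (g⁻¹ * z * g) := by group)
    obtain ⟨k, hk⟩ := P.isPGroup' ⟨z, hzP⟩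
    have hk' : z ^ 3 ^ k = 1 := congrArg Subtype.val hk
    obtain ⟨j, -, hj⟩ := (Nat.dvd_prime_pow Nat.prime_three).1
      (orderOf_dvd_of_pow_eq_one (x := (⟨_, hzb⟩ : C)) (n := 3 ^ k) (Subtype.ext (by
        rw [SubmonoidClass.coe_pow]
        show (g⁻¹ * z * g) ^ 3 ^ k = 1
        have := conj_pow (i := 3 ^ k) (a := g⁻¹) (b := z)
        rw [inv_inv] at this
        rw [this, hk', mul_one, inv_mul_cancel])))
    obtain ⟨T, hT⟩ := (IsPGroup.of_card (p := 3) (n := j) (G := zpowers (⟨_, hzb⟩ : C))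
      (by rw [Nat.card_zpowers, hj])).exists_le_sylow
    obtain ⟨c, hc⟩ := MulAction.exists_smul_eq C T S
    have hcS : c * ⟨_, hzb⟩ * c⁻¹ ∈ (S : Subgroup C) := by
      rw [← hc, Sylow.coe_subgroup_smul]
      exact Subgroup.smul_mem_pointwise_smul _ (MulAut.conj c) _ (hT (Subgroup.mem_zpowers _))
    have hcP : (c : K) * g⁻¹ * z * ((c : K) * g⁻¹)⁻¹ ∈ (P : Subgroup K) := by
      have := (hSJ _ hcS).1
      show _ ∈ (P : Subgroup K)
      rw [show (c : K) * g⁻¹ * z * ((c : K) * g⁻¹)⁻¹ = (c : K) * (g⁻¹ * z * g) * (c : K)⁻¹ by group]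
      exact this
    set m := (c : K) * g⁻¹ with hm
    have hmN : ∀ x ∈ (P : Subgroup K), m * x * m⁻¹ ∈ (P : Subgroup K) := by
      rcases hiso m hcP with h | ⟨p, hp, h⟩
      · exact fun x hx => mul_mem (mul_mem h hx) (inv_mem h)
      · intro x hx
        rw [h, show p * t * x * (p * t)⁻¹ = p * (t * x * t⁻¹) * p⁻¹ by group]
        exact mul_mem (mul_mem hp (ht x hx)) (inv_mem hp)
    have hmP : m⁻¹ * z * m⁻¹⁻¹ ∈ (P : Subgroup K) := mem_normalizer_conj
      (inv_mem (mem_normalizer_fintype (S := ((P : Subgroup K) : Set K)) hmN)) hzP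
    have hb : m⁻¹ * a * m⁻¹⁻¹ = b := by
      have hca : (c : K)⁻¹ * a * c = a := by
        rw [mul_assoc, ← mem_centralizer_singleton_iff.1 c.2, inv_mul_cancel_left]
      rw [← hg, inv_inv, hm]
      calc ((c : K) * g⁻¹)⁻¹ * a * ((c : K) * g⁻¹) = g * ((c : K)⁻¹ * a * c) * g⁻¹ := by group
        _ = g * a * g⁻¹ := by rw [hca]
    rcases hiso _ hmP with h | ⟨p, hp, h⟩
    · exact ⟨_, h, Or.inl hb⟩
    · refine ⟨p, hp, Or.inr ?_⟩
      rw [← hb, h]; group
  · obtain ⟨O, hOn, hO3, hdec, -⟩ : NormalCompl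
        (((P : Subgroup K) ⊓ centralizer ({(v : K)} : Set K)).subgroupOf (centralizer ({(v : K)} : Set K))) := by
      set C := centralizer ({(v : K)} : Set K)
      set J := (P : Subgroup K) ⊓ C
      obtain ⟨S, hS⟩ := ((P.isPGroup'.to_le (inf_le_left : J ≤ _)).comap_subtype (K := C)).exists_le_sylow
      have hSJ : (S : Subgroup C) = J.subgroupOf C := by
        refine le_antisymm (fun x hx => ?_) hS
        have := hsyl v hv ((S : Subgroup C).map C.subtype) (S.isPGroup'.map _)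
          (fun y hy => ⟨⟨y, hy.2⟩, hS hy, rfl⟩) (map_subtype_le _)
        exact this.le ⟨x, hx, rfl⟩
      rw [← hSJ]
      refine burnside S fun g hg => ?_
      have hzS : (⟨z, mem_centralizer_singleton_iff.2 (hz _ v.2).eq⟩ : C) ∈ (S : Subgroup C) :=
        hSJ ▸ (⟨hzP, mem_centralizer_singleton_iff.2 (hz _ v.2).eq⟩ : z ∈ J)
      have hgz := mem_normalizer_conj hg hzS
      rw [hSJ] at hgz
      have hgP := hne v hv g (mem_centralizer_singleton_iff.1 g.2) (hiso _ hgz.1)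
      refine mem_centralizer_iff.2 fun x hx => ?_
      rw [SetLike.mem_coe, hSJ] at hx
      have hxg : (⟨x, hx.1⟩ : (P : Subgroup K)) * ⟨g, hgP⟩ = ⟨g, hgP⟩ * ⟨x, hx.1⟩ := (habv v ⟨x, hx.1⟩ ⟨g, hgP⟩ hv
        (Subtype.ext (mem_centralizer_singleton_iff.1 hx.2)) (Subtype.ext (mem_centralizer_singleton_iff.1 g.2))).eq
      exact Subtype.ext (congrArg (fun y : (P : Subgroup K) => (y : K)) hxg)
    refine ⟨O.map (centralizer ({(v : K)} : Set K)).subtype, ?_, ?_, ?_, ?_⟩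
    · rintro _ ⟨o, -, rfl⟩; exact mem_centralizer_singleton_iff.1 o.2
    · intro c hc _ ho
      obtain ⟨o, ho, rfl⟩ := ho
      exact ⟨⟨c, mem_centralizer_singleton_iff.2 hc⟩ * o * ⟨c, mem_centralizer_singleton_iff.2 hc⟩⁻¹,
        hOn.conj_mem o ho _, rfl⟩
    · rwa [card_map_of_injective (Subgroup.subtype_injective _)]
    · intro c hc
      obtain ⟨o, ho, p, hp, e⟩ := hdec ⟨c, mem_centralizer_singleton_iff.2 hc⟩
      exact ⟨o, ⟨o, ho, rfl⟩, p, hp.1, mem_centralizer_singleton_iff.1 p.2, congrArg Subtype.val e⟩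

end Cfsg.Agent.Spor.L43Three.Inverted
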