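import Mathlib

/-!
Finite sums over an elementary abelian group of order nine or 27 for the functions `2 - λ - λ⁻¹`.
-/

set_option autoImplicit false
set_option maxRecDepth 100000

namespace Cfsg.Agent.Spor.L43Three.Inverted

/-- Coordinate vectors. -/
abbrev Vec (n : ℕ) := Fin n → ZMod 3

/-- The pairing. -/
def dot {n : ℕ} (l w : Vec n) : ZMod 3 := ∑ i, l i * w i

/-- The values of `2 - λ - λ⁻¹`. -/
def fw {n : ℕ} (l w : Vec n) : ℤ := if dot l w = 0 then 0 else 3

/-- One functional for each line. -/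
def Lam (n : ℕ) : Finset (Vec n) :=
  Finset.univ.filter fun l => ∃ i, l i = 1 ∧ ∀ j, j < i → l j = 0

theorem fw_zero {n : ℕ} (l : Vec n) : fw l 0 = 0 := by simp [fw, dot]

theorem fw_neg {n : ℕ} (l w : Vec n) : fw l (-w) = fw l w := by
  have : dot l (-w) = -dot l w := by simp [dot, mul_neg, Finset.sum_neg_distrib]
  simp [fw, this]

theorem dot_add {n : ℕ} (l v w : Vec n) : dot l (v + w) = dot l v + dot l w := by
  simp [dot, mul_add, Finset.sum_add_distrib]

/-- The identities used by the character argument. -/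
structure Good (n : ℕ) (K A : ℤ) : Prop where
  four : 4 ≤ (Lam n).card
  one : ∀ l ∈ Lam n, ∑ w, fw l w = 2 * 3 ^ n
  pair : ∀ l ∈ Lam n, ∀ m ∈ Lam n, ∑ w, fw l w * fw m w = if l = m then 6 * 3 ^ n else 4 * 3 ^ n
  lin : ∀ a : Vec n, a ≠ 0 → ∑ l ∈ Lam n, (fw l a - 1) = ((Lam n).card : ℤ) + 1
  quad : ∀ a : Vec n, a ≠ 0 → 1 + ∑ l ∈ Lam n, (fw l a - 1) * (fw l a - 1) = 3 ^ n + ((Lam n).card : ℤ) + 1
  sq : ∀ a : Vec n, a ≠ 0 → ∑ l ∈ Lam n, (fw l a - 2) * (fw l a - 2) = A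
  mixed : ∀ a e : Vec n, a ≠ 0 → (∀ k : ZMod 3, e ≠ k • a) →
    ∑ l ∈ Lam n, (fw l a - 2) * (fw l a - 2) * (fw l e - 1) = K
  arith : ∀ u c : ℤ, u ≠ 0 → u * (1 + u) + c * (1 + u) - (K - A * c) * u = 0 → (3 : ℤ) ∣ c - u → u = 1

theorem arith_two (u c : ℤ) (hu : u ≠ 0) (h : u * (1 + u) + c * (1 + u) - (11 - 7 * c) * u = 0) (h3 : (3 : ℤ) ∣ c - u) :
    u = 1 := by
  have hd : (8 * u + 1) ∣ 81 := ⟨81 - 8 * u - 64 * c, by linear_combination (64 : ℤ) * h⟩
  have hb := Int.le_of_dvd (by norm_num) ((abs_dvd _ _).2 hd)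
  rw [abs_le] at hb
  have h1 : -10 ≤ u := by omega
  have h2 : u ≤ 10 := by omega
  interval_cases u <;> omega

theorem arith_three (u c : ℤ) (hu : u ≠ 0) (h : u * (1 + u) + c * (1 + u) - (29 - 25 * c) * u = 0) (h3 : (3 : ℤ) ∣ c - u) :
    u = 1 := by
  have hd : (26 * u + 1) ∣ 729 := ⟨729 - 26 * u - 676 * c, by linear_combination (676 : ℤ) * h⟩
  have hb := Int.le_of_dvd (by norm_num) ((abs_dvd _ _).2 hd)
  rw [abs_le] at hb
  have h1 : -28 ≤ u := by omega
  have h2 : u ≤ 28 := by omega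
  interval_cases u <;> omega

theorem good_two : Good 2 11 7 :=
  ⟨by decide +kernel, by decide +kernel, by decide +kernel, by decide +kernel, by decide +kernel,
    by decide +kernel, by decide +kernel, arith_two⟩

theorem good_three : Good 3 29 25 :=
  ⟨by decide +kernel, by decide +kernel, by decide +kernel, by decide +kernel, by decide +kernel,
    by decide +kernel, by decide +kernel, arith_three⟩

end Cfsg.Agent.Spor.L43Three.Inverted
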