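import Mathlib
import Cfsg.Agent.Lib.Spor.L43Three.Inverted.Sums

/-!
A Sylow three-subgroup mapped onto an elementary group inverted by an element of its normaliser, which controls
fusion outside the kernel, where centralisers are three-nilpotent.
-/

set_option autoImplicit false
set_option linter.unusedSectionVars false

namespace Cfsg.Agent.Spor.L43Three.Inverted

open Subgroup

universe u

variable {G : Type u} [Group G] [Finite G]

/-- The centraliser of `v` is a product of a normal subgroup of order prime to three with its part in `P`. -/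
def RegCompl (P : Subgroup G) (v : G) : Prop :=
  ∃ O : Subgroup G, (∀ o ∈ O, Commute o v) ∧ (∀ c : G, Commute c v → ∀ o ∈ O, c * o * c⁻¹ ∈ O) ∧
    (Nat.card O).Coprime 3 ∧ ∀ c : G, Commute c v → ∃ o ∈ O, ∃ p ∈ P, Commute p v ∧ c = o * p

/-- The data. -/
structure Inv (P : Sylow 3 G) (n : ℕ) where
  φ : (P : Subgroup G) →* Multiplicative (Vec n)
  φ_surj : Function.Surjective φ
  t : G
  t_norm : ∀ p ∈ (P : Subgroup G), t * p * t⁻¹ ∈ (P : Subgroup G)
  t_φ : ∀ p : (P : Subgroup G), φ ⟨t * p * t⁻¹, t_norm p p.2⟩ = (φ p)⁻¹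
  fus : ∀ a b : (P : Subgroup G), φ a ≠ 1 → ∀ g : G, g * a * g⁻¹ = b →
    ∃ m ∈ (P : Subgroup G), m * a * m⁻¹ = b ∨ m * (t * a * t⁻¹) * m⁻¹ = b
  cent : ∀ a : (P : Subgroup G), φ a ≠ 1 → RegCompl (P : Subgroup G) a

namespace Inv

variable {P : Sylow 3 G} {n : ℕ} (D : Inv P n)

/-- The coordinates of an element of the Sylow subgroup. -/
def co (p : (P : Subgroup G)) : Vec n := Multiplicative.toAdd (D.φ p)

theorem co_mul (p q : (P : Subgroup G)) : D.co (p * q) = D.co p + D.co q := by rw [co, map_mul]; rfl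

theorem co_inv (p : (P : Subgroup G)) : D.co p⁻¹ = -D.co p := by rw [co, map_inv]; rfl

theorem co_one : D.co 1 = 0 := by rw [co, map_one]; rfl

theorem co_eq_zero {p : (P : Subgroup G)} : D.co p = 0 ↔ D.φ p = 1 := Multiplicative.toAdd.injective.eq_iff' rfl

theorem co_conj (p q : (P : Subgroup G)) : D.co (q * p * q⁻¹) = D.co p := by
  rw [D.co_mul, D.co_mul, D.co_inv]; abel

theorem co_t (p : (P : Subgroup G)) : D.co ⟨D.t * p * D.t⁻¹, D.t_norm p p.2⟩ = -D.co p := by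
  rw [co, D.t_φ]; rfl

theorem co_fus {a b : (P : Subgroup G)} (h : IsConj (a : G) b) : D.co b = D.co a ∨ D.co b = -D.co a := by
  obtain ⟨g, hg⟩ := isConj_iff.1 h
  by_cases ha : D.φ a = 1
  · by_cases hb : D.φ b = 1
    · left; rw [D.co_eq_zero.2 ha, D.co_eq_zero.2 hb]
    · obtain ⟨m, hm, h' | h'⟩ := D.fus b a hb g⁻¹ (by rw [← hg]; group)
      · left
        have e : a = ⟨m, hm⟩ * b * ⟨m, hm⟩⁻¹ := Subtype.ext h'.symm
        rw [e, D.co_conj]
      · right
        have e : a = ⟨m, hm⟩ * ⟨D.t * b * D.t⁻¹, D.t_norm b b.2⟩ * ⟨m, hm⟩⁻¹ := Subtype.ext h'.symm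
        rw [e, D.co_conj, D.co_t, neg_neg]
  · obtain ⟨m, hm, h' | h'⟩ := D.fus a b ha g hg
    · left
      have e : b = ⟨m, hm⟩ * a * ⟨m, hm⟩⁻¹ := Subtype.ext h'.symm
      rw [e, D.co_conj]
    · right
      have e : b = ⟨m, hm⟩ * ⟨D.t * a * D.t⁻¹, D.t_norm a a.2⟩ * ⟨m, hm⟩⁻¹ := Subtype.ext h'.symm
      rw [e, D.co_conj, D.co_t]

end Inv

/-- The orders in a complemented centraliser. -/
theorem RegCompl.disjoint {P : Sylow 3 G} {O : Subgroup G} (hO : (Nat.card O).Coprime 3) {x : G} (h1 : x ∈ O)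
    (h2 : x ∈ (P : Subgroup G)) : x = 1 := by
  haveI : Fact (Nat.Prime 3) := ⟨Nat.prime_three⟩
  obtain ⟨k, hk⟩ := IsPGroup.iff_orderOf.1 P.isPGroup' ⟨x, h2⟩
  rw [Subgroup.orderOf_mk] at hk
  exact orderOf_eq_one_iff.1 (Nat.eq_one_of_dvd_coprimes (hO.pow_right k) (Subgroup.orderOf_dvd_natCard O h1)
    (hk ▸ dvd_rfl))

end Cfsg.Agent.Spor.L43Three.Inverted
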