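import Mathlib
import Cfsg.Agent.Lib.Spor.L43Three.Inverted.Def

/-!
Two conjugates of a self-centralising element of order three do not multiply into an independent class of order
three.
-/

set_option autoImplicit false
set_option linter.unusedSectionVars false

namespace Cfsg.Agent.Spor.L43Three.Inverted

open Subgroup

universe u

variable {G : Type u} [Group G] [Finite G] {P : Sylow 3 G} {n : ℕ}

/-- A three-element of a complemented centraliser and its conjugate in `P` have the same image. -/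
theorem Inv.retraction (D : Inv P n) {x : G} (hx : x ∈ (P : Subgroup G)) (hR : RegCompl (P : Subgroup G) x) :
    ∃ f : {c : G // Commute c x} → Vec n,
      (∀ c d, ∀ h : Commute (c.1 * d.1) x, f ⟨c.1 * d.1, h⟩ = f c + f d) ∧
      (∀ p : (P : Subgroup G), ∀ h : Commute (p : G) x, f ⟨p, h⟩ = D.co p) ∧
      ∀ c : {c : G // Commute c x}, (∃ k : ℕ, c.1 ^ 3 ^ k = 1) →
        ∃ p : (P : Subgroup G), IsConj c.1 p ∧ D.co p = f c := by
  classical
  haveI : Fact (Nat.Prime 3) := ⟨Nat.prime_three⟩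
  obtain ⟨O, hOx, hOn, hO3, hdec⟩ := hR
  choose o ho p hp hpx he using fun c : {c : G // Commute c x} => hdec c.1 c.2
  have key : ∀ (c : {c : G // Commute c x}) (q : G), q ∈ (P : Subgroup G) → c.1 * q⁻¹ ∈ O → q = p c := by
    intro c q hq hcq
    have h1 : p c * q⁻¹ ∈ O := by
      have := mul_mem (inv_mem (ho c)) hcq
      rwa [he c, mul_assoc, inv_mul_cancel_left] at this
    exact (mul_inv_eq_one.1 (RegCompl.disjoint hO3 h1 (mul_mem (hp c) (inv_mem hq)))).symm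
  let C : Subgroup G :=
    { carrier := {c | Commute c x}
      one_mem' := Commute.one_left x
      mul_mem' := fun ha hb => ha.mul_left hb
      inv_mem' := fun ha => ha.inv_left }
  let ψ : C →* (P : Subgroup G) := MonoidHom.mk' (fun c => ⟨p ⟨c.1, c.2⟩, hp _⟩) fun c d => by
    refine Subtype.ext (key ⟨(c.1 * d.1 : G), C.mul_mem c.2 d.2⟩ (p ⟨c.1, c.2⟩ * p ⟨d.1, d.2⟩) (mul_mem (hp _) (hp _)) ?_).symm
    have e1 := he ⟨c.1, c.2⟩
    have e2 := he ⟨d.1, d.2⟩
    show c.1 * d.1 * _ ∈ O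
    simp only at e1 e2
    rw [show c.1 * d.1 * (p ⟨c.1, c.2⟩ * p ⟨d.1, d.2⟩)⁻¹ =
      c.1 * (p ⟨c.1, c.2⟩)⁻¹ * (p ⟨c.1, c.2⟩ * (d.1 * (p ⟨d.1, d.2⟩)⁻¹) * (p ⟨c.1, c.2⟩)⁻¹) by group]
    refine mul_mem ?_ (hOn _ (hpx _) _ ?_)
    · nth_rw 1 [e1]; rw [mul_inv_cancel_right]; exact ho _
    · nth_rw 1 [e2]; rw [mul_inv_cancel_right]; exact ho _
  have hψP : ∀ (q : (P : Subgroup G)) (h : (q : G) ∈ C), ψ ⟨q, h⟩ = q := fun q h =>
    Subtype.ext (key ⟨q, h⟩ q q.2 (by simpa using one_mem O)).symm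
  refine ⟨fun c => D.co (ψ ⟨c.1, c.2⟩), fun c d h => ?_, fun q h => by simp only; rw [hψP], fun c hc => ?_⟩
  · simp only
    rw [← D.co_mul, ← map_mul]; rfl
  -- Sylow in the centraliser
  set P' := (P : Subgroup G).subgroupOf C
  have hP'3 : IsPGroup 3 P' := P.isPGroup'.comap_subtype
  have hcompl : P'.IsComplement' (O.subgroupOf C) := by
    refine Subgroup.isComplement'_of_disjoint_and_mul_eq_univ ?_ ?_
    · rw [disjoint_iff_inf_le]
      intro w hw
      exact Subtype.ext (RegCompl.disjoint hO3 hw.2 hw.1)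
    · refine Set.eq_univ_of_forall fun w => ?_
      have hq : p ⟨w.1, w.2⟩ ∈ C := hpx _
      refine Set.mem_mul.2 ⟨⟨_, hq⟩, hp _, (⟨_, hq⟩ : C)⁻¹ * w, ?_, by simp⟩
      show ((p ⟨w.1, w.2⟩)⁻¹ * w.1) ∈ O
      have e1 := he ⟨w.1, w.2⟩
      simp only at e1
      have e : (p ⟨w.1, w.2⟩)⁻¹ * w.1 = (p ⟨w.1, w.2⟩)⁻¹ * o ⟨w.1, w.2⟩ * (p ⟨w.1, w.2⟩)⁻¹⁻¹ := by
        nth_rw 2 [e1]; group
      rw [e]
      exact hOn _ (hpx _).inv_left _ (ho _)
  have hnd : ¬ 3 ∣ P'.index := by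
    rw [hcompl.symm.index_eq_card, Nat.card_congr (Subgroup.subgroupOfEquivOfLe (fun o ho => hOx o ho)).toEquiv]
    exact (Nat.prime_three.coprime_iff_not_dvd).1 hO3.symm
  let S : Sylow 3 C := hP'3.toSylow hnd
  obtain ⟨k, hk⟩ := hc
  have hck : (⟨c.1, c.2⟩ : C) ^ 3 ^ k = 1 := Subtype.ext (by
    show ((⟨c.1, c.2⟩ : C) ^ 3 ^ k : C).1 = 1
    rw [SubmonoidClass.coe_pow]; exact hk)
  obtain ⟨i, -, hi⟩ := (Nat.dvd_prime_pow Nat.prime_three).1 (orderOf_dvd_of_pow_eq_one hck)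
  have hcp : IsPGroup 3 (zpowers (⟨c.1, c.2⟩ : C)) := IsPGroup.of_card (n := i) (by rw [Nat.card_zpowers, hi])
  obtain ⟨R, hR⟩ := hcp.exists_le_sylow
  obtain ⟨d, hd⟩ := MulAction.exists_smul_eq C R S
  have hmem0 : d * ⟨c.1, c.2⟩ * d⁻¹ ∈ (S : Subgroup C) := by
    rw [← hd, Sylow.coe_subgroup_smul]
    exact Subgroup.smul_mem_pointwise_smul _ (MulAut.conj d) _ (hR (mem_zpowers _))
  have hmem : ((d * ⟨c.1, c.2⟩ * d⁻¹ : C) : G) ∈ (P : Subgroup G) := hmem0
  refine ⟨⟨((d * ⟨c.1, c.2⟩ * d⁻¹ : C) : G), hmem⟩, isConj_iff.2 ⟨(d : G), rfl⟩, ?_⟩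
  rw [← hψP ⟨_, hmem⟩ (d * ⟨c.1, c.2⟩ * d⁻¹ : C).2]
  simp only [Subtype.coe_eta, map_mul, map_inv, D.co_conj]

/-- No product of two conjugates of `a` is conjugate to an independent `e`. -/
theorem Inv.no_triangle (D : Inv P n) (a e : (P : Subgroup G)) (ha3 : (a : G) ^ 3 = 1) (he3 : (e : G) ^ 3 = 1)
    (ha : D.φ a ≠ 1) (hind : ∀ k : ZMod 3, D.co e ≠ k • D.co a) (hca : ∀ c : G, Commute c a → c ∈ (P : Subgroup G))
    (hker : ∀ x : (P : Subgroup G), x ≠ 1 → D.φ x = 1 → Commute (x : G) a → RegCompl (P : Subgroup G) (x : G))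
    (g : G) : ¬ IsConj ((a : G) * (g * a * g⁻¹)) e := by
  intro hsol
  set w : G := (a : G) with hw
  set s := g * w * g⁻¹ with hs
  have hcs : IsConj w s := isConj_iff.2 ⟨g, rfl⟩
  have hw3 : w * w * w = 1 := by rwa [pow_three, ← mul_assoc] at ha3
  have hww : w * w = w⁻¹ := (inv_eq_of_mul_eq_one_left hw3).symm
  have hs3 : s * s * s = 1 := by
    calc s * s * s = g * (w * w * w) * g⁻¹ := by rw [hs]; group
      _ = 1 := by rw [hw3]; group
  obtain ⟨c, hc⟩ := isConj_iff.1 hsol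
  have hws3 : w * s * (w * s) * (w * s) = 1 := by
    have h1 : (e : G) * e * e = 1 := by rwa [pow_three, ← mul_assoc] at he3
    calc w * s * (w * s) * (w * s)
        = c⁻¹ * ((c * (w * s) * c⁻¹) * (c * (w * s) * c⁻¹) * (c * (w * s) * c⁻¹)) * c := by group
      _ = 1 := by rw [hc, h1]; group
  have bad : ∀ p q : (P : Subgroup G), IsConj w p → IsConj (w * s) q → D.co q = D.co a + D.co p → False := by
    intro p q hp hq h
    rcases D.co_fus hp with h1 | h1 <;> rcases D.co_fus (hsol.symm.trans hq) with h2 | h2 <;>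
      rw [h1] at h <;> rw [h2] at h
    · exact hind 2 (by rw [h, show (2 : ZMod 3) = 1 + 1 by decide, add_smul, one_smul])
    · exact hind (-2) (by rw [← neg_neg (D.co e), h, neg_smul, show (2 : ZMod 3) = 1 + 1 by decide, add_smul, one_smul])
    · exact hind 0 (by rw [h, add_neg_cancel, zero_smul])
    · exact hind 0 (by rw [← neg_neg (D.co e), h, add_neg_cancel, neg_zero, zero_smul])
  set u := w * s⁻¹ with hu
  set v := s⁻¹ * w with hv
  have hss : s⁻¹ * s⁻¹ = s := by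
    rw [← mul_inv_rev]
    exact inv_eq_of_mul_eq_one_left (by rw [← mul_assoc, hs3])
  have huv : u * v = w * s * w := by
    calc u * v = w * (s⁻¹ * s⁻¹) * w := by rw [hu, hv]; group
      _ = w * s * w := by rw [hss]
  have hvu : v * u = (s * w * s)⁻¹ := by
    calc v * u = s⁻¹ * (w * w) * s⁻¹ := by rw [hu, hv]; group
      _ = s⁻¹ * w⁻¹ * s⁻¹ := by rw [hww]
      _ = (s * w * s)⁻¹ := by group
  have hrel : w * s * w = (s * w * s)⁻¹ := eq_inv_of_mul_eq_one_left (by rw [← hws3]; group)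
  have hcomm : Commute u v := by
    show u * v = v * u
    rw [huv, hvu, hrel]
  let A : Subgroup G := closure {u, v}
  have huA : u ∈ A := subset_closure (Or.inl rfl)
  have hvA : v ∈ A := subset_closure (Or.inr rfl)
  haveI : IsMulCommutative A := Subgroup.isMulCommutative_closure (by
    rintro x (rfl | rfl) y (rfl | rfl)
    exacts [rfl, hcomm, hcomm.symm, rfl])
  have hAc : ∀ x ∈ A, ∀ y ∈ A, x * y = y * x := fun x hx y hy =>
    congrArg Subtype.val (mul_comm' (⟨x, hx⟩ : A) ⟨y, hy⟩)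
  have hinv : ∀ x ∈ A, w * x * w⁻¹ ∈ A := by
    intro x hx
    induction hx using closure_induction with
    | mem x hx =>
      rcases hx with rfl | rfl
      · rw [show w * u * w⁻¹ = (u * v)⁻¹ from ?_]
        · exact inv_mem (mul_mem huA hvA)
        rw [huv]
        calc w * u * w⁻¹ = (w * w) * s⁻¹ * w⁻¹ := by rw [hu]; group
          _ = (w * s * w)⁻¹ := by rw [hww]; group
      · rw [show w * v * w⁻¹ = u by rw [hu, hv]; group]
        exact huA
    | one => simp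
    | mul p q _ _ hp hq => convert mul_mem hp hq using 1; group
    | inv p _ hp => convert inv_mem hp using 1; group
  by_cases hA : ∀ x ∈ A, Commute x w → x = 1
  · let f : A → A := fun x => ⟨x * (w * x * w⁻¹)⁻¹, mul_mem x.2 (inv_mem (hinv x x.2))⟩
    have hinj : Function.Injective f := by
      intro x y hxy
      have he' : (x : G) * (w * x * w⁻¹)⁻¹ = y * (w * y * w⁻¹)⁻¹ := congrArg Subtype.val hxy
      have h2 : Commute ((y : G)⁻¹ * x) w := by
        show (y : G)⁻¹ * x * w = w * ((y : G)⁻¹ * x)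
        calc (y : G)⁻¹ * x * w = (y : G)⁻¹ * ((x : G) * (w * x * w⁻¹)⁻¹) * w * x := by group
          _ = w * ((y : G)⁻¹ * x) := by rw [he']; group
      exact Subtype.ext (inv_mul_eq_one.mp (hA _ (mul_mem (inv_mem y.2) x.2) h2)).symm
    obtain ⟨x, hx⟩ := (Finite.injective_iff_surjective.mp hinj) ⟨v, hvA⟩
    have hx' : (x : G) * (w * x * w⁻¹)⁻¹ = v := congrArg Subtype.val hx
    have h1 : IsConj w (v * w) := isConj_iff.2 ⟨x, by rw [← hx']; group⟩
    rw [show v * w = (w * s)⁻¹ by rw [hv, mul_assoc, hww]; group] at h1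
    have h2 : IsConj (w * s)⁻¹ ((e⁻¹ : (P : Subgroup G)) : G) :=
      isConj_iff.2 ⟨c, by rw [← conj_inv, hc]; rfl⟩
    rcases D.co_fus (h1.trans h2) with h | h <;> rw [D.co_inv] at h
    · exact hind (-1) (by rw [← neg_neg (D.co e), h, neg_smul, one_smul])
    · exact hind 1 (by rw [neg_injective h, one_smul])
  · push Not at hA
    obtain ⟨x, hxA, hxw, hx1⟩ := hA
    have hxP : x ∈ (P : Subgroup G) := hca x hxw
    have cux : Commute u x := hAc u huA x hxA
    have csx : Commute s x := by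
      have := cux.inv_left.mul_left hxw.symm
      rwa [show u⁻¹ * w = s by rw [hu]; group] at this
    have hR : RegCompl (P : Subgroup G) x := by
      by_cases hφ : D.φ ⟨x, hxP⟩ = 1
      · exact hker ⟨x, hxP⟩ (fun h => hx1 (congrArg Subtype.val h)) hφ hxw
      · exact D.cent ⟨x, hxP⟩ hφ
    obtain ⟨f, hf, hfP, hfc⟩ := D.retraction hxP hR
    obtain ⟨p, hsp, hp⟩ := hfc ⟨s, csx⟩ ⟨1, by rw [pow_one, pow_three, ← mul_assoc, hs3]⟩
    obtain ⟨q, hwq, hq⟩ := hfc ⟨w * s, hxw.symm.mul_left csx⟩ ⟨1, by rw [pow_one, pow_three, ← mul_assoc, hws3]⟩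
    refine bad p q (hcs.trans hsp) hwq ?_
    rw [hq, hf ⟨w, hxw.symm⟩ ⟨s, csx⟩, hp, hfP a]

end Cfsg.Agent.Spor.L43Three.Inverted
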