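import Cfsg.Agent.Lib.Spor.L43Three.Inverted.Theta
import Cfsg.Agent.Lib.Spor.L43Three.Inverted.Triangle
import Cfsg.Agent.Lib.Invol.Order95040.Counting
import Cfsg.Agent.Lib.Invol.G23Am.NineCount

/-!
An inverted Sylow quotient with an element of self-centralising Sylow type yields a linear character.
-/

open scoped ComplexConjugate

namespace Cfsg.Agent.Spor.L43Three.Inverted

open Cfsg Cfsg.Agent.Block Cfsg.Agent.Char Cfsg.Agent.Char.Star Cfsg.Agent.Char.SecInner Cfsg.Agent.Spor.NineQ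

set_option linter.unusedSectionVars false
set_option linter.style.haveILetI false

universe u

/-- Four or more pairs, two of which meet in one point, have a common point. -/
theorem star {ι κ : Type*} [Fintype ι] (h4 : 4 ≤ Fintype.card ι) (x y : ι → κ) (hxy : ∀ i, x i ≠ y i)
    (hex : ∀ i j, ∃ a, (x i = a ∨ y i = a) ∧ (x j = a ∨ y j = a))
    (hone : ∀ i j, i ≠ j → ∀ a b, (x i = a ∨ y i = a) → (x i = b ∨ y i = b) → (x j = a ∨ y j = a) →
      (x j = b ∨ y j = b) → a = b) :
    ∃ E, ∀ i, x i = E ∨ y i = E := by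
  classical
  have two : ∀ {i a b c}, (x i = a ∨ y i = a) → (x i = b ∨ y i = b) → (x i = c ∨ y i = c) → a ≠ b → a ≠ c →
      b = c := by
    rintro i a b c (h1 | h1) (h2 | h2) (h3 | h3) hab hac
    all_goals first
      | exact absurd (h1.symm.trans h2) hab
      | exact absurd (h1.symm.trans h3) hac
      | exact h2.symm.trans h3
  obtain ⟨i₀, i₁, hne⟩ := Fintype.exists_pair_of_one_lt_card (α := ι) (by omega)
  obtain ⟨E, hE0, hE1⟩ := hex i₀ i₁
  refine ⟨E, fun i => ?_⟩
  by_contra hi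
  obtain ⟨p, hpi, hp0⟩ := hex i i₀
  obtain ⟨q, hqi, hq1⟩ := hex i i₁
  have hpE : E ≠ p := fun e => hi (e ▸ hpi)
  have hqE : E ≠ q := fun e => hi (e ▸ hqi)
  have hpq : p ≠ q := fun e => hpE (hone i₀ i₁ hne E p hE0 hp0 hE1 (e ▸ hq1))
  obtain ⟨j, hj⟩ : ∃ j, j ∉ ({i₀, i₁, i} : Finset ι) := by
    by_contra hc
    push Not at hc
    have h := Finset.card_le_card (s := Finset.univ) fun x _ => hc x
    have h' := h.trans Finset.card_le_three
    rw [Finset.card_univ] at h'
    omega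
  simp only [Finset.mem_insert, Finset.mem_singleton, not_or] at hj
  obtain ⟨hj0, hj1, hji⟩ := hj
  by_cases hjE : x j = E ∨ y j = E
  · obtain ⟨r, hrj, hri⟩ := hex j i
    have hrE : E ≠ r := fun e => hi (e ▸ hri)
    rcases eq_or_ne r p with rfl | hrp
    · exact hpE (hone i₀ j (Ne.symm hj0) E r hE0 hp0 hjE hrj)
    · have := two hpi hri hqi (Ne.symm hrp) hpq
      subst this
      exact hqE (hone i₁ j (Ne.symm hj1) E r hE1 hq1 hjE hrj)
  · obtain ⟨s, hsj, hs0⟩ := hex j i₀
    obtain ⟨t, htj, ht1⟩ := hex j i₁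
    have hsp := two hE0 hs0 hp0 (fun e => hjE (e ▸ hsj)) hpE
    have htq := two hE1 ht1 hq1 (fun e => hjE (e ▸ htj)) hqE
    exact hpq (hone i j (Ne.symm hji) p q hpi hqi (hsp ▸ hsj) (htq ▸ htj))

variable {G : Type u} [Group G] [Fintype G] {P : Sylow 3 G} {n : ℕ}

open Classical in
/-- The Sylow subgroup lies in a proper normal subgroup. -/
theorem Inv.exists_proper_normal (D : Inv P n) {K A : ℤ} (hg : Good n K A) (a e : (P : Subgroup G))
    (ha3 : (a : G) ^ 3 = 1) (he3 : (e : G) ^ 3 = 1) (ha : D.φ a ≠ 1) (heinv : IsConj (e : G)⁻¹ e)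
    (hind : ∀ k : ZMod 3, D.co e ≠ k • D.co a) (hca : ∀ c : G, Commute c a → c ∈ (P : Subgroup G))
    (hcard : Nat.card (Subgroup.centralizer ({(a : G)} : Set G)) = 3 ^ n)
    (hker : ∀ x : (P : Subgroup G), x ≠ 1 → D.φ x = 1 → Commute (x : G) a → RegCompl (P : Subgroup G) (x : G))
    (hgen : (P : Subgroup G) ≤
      Subgroup.closure {y | ∃ q ∈ (P : Subgroup G), y = q⁻¹ * (D.t * q * D.t⁻¹)}) :
    ∃ N : Subgroup G, N.Normal ∧ N ≠ ⊤ ∧ (P : Subgroup G) ≤ N := by
  haveI : Fact (Nat.Prime 3) := ⟨Nat.prime_three⟩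
  set τ := trivialIrr G
  let ι := {l : Vec n // l ∈ Lam n}
  let f : ι → G → ℂ := fun l => lift P (D.psi l)
  have hf : ∀ l, IsGeneralizedCharacter G (f l) := fun l => D.psi_genChar l
  have hdata := fun l : ι => three_terms (hf l) (by rw [D.inner_psi hg l.2 l.2, if_pos rfl])
    (D.inner_one hg l.2) (by show lift P (D.psi l.1) 1 = 0; rw [lift_one (D.psi_stable _), D.psi_one])
  choose c hc hcτ X Y hXY hXτ hYτ hcX hcY honly hdeg hsum using hdata
  have hcsupp : ∀ l χ, χ ≠ τ → (c l χ ≠ 0 ↔ X l = χ ∨ Y l = χ) := by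
    intro l χ hχ
    constructor
    · intro h
      rcases honly l χ h with h | h | h
      exacts [absurd h hχ, Or.inl h.symm, Or.inr h.symm]
    · rintro (h | h) <;> rw [← h]
      · rcases hcX l with h | h <;> omega
      · rcases hcY l with h | h <;> omega
  have hmeet : ∀ l m, l ≠ m →
      (c m (X l) = c l (X l) ∧ c m (Y l) = 0) ∨ (c m (Y l) = c l (Y l) ∧ c m (X l) = 0) := by
    intro l m hlm
    have h := inner_eq_sum (hf m) (hc l) (hc m)
    rw [hsum l (c m), show classInner (f l) (f m) = 2 from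
      (D.inner_psi hg l.2 m.2).trans (if_neg fun e => hlm (Subtype.ext e))] at h
    have h' : c m τ + c l (X l) * c m (X l) + c l (Y l) * c m (Y l) = 2 := by exact_mod_cast h.symm
    rw [hcτ] at h'
    have hb : ∀ χ, χ ≠ τ → c m χ = 0 ∨ c m χ = 1 ∨ c m χ = -1 := by
      intro χ hχ
      by_cases h0 : c m χ = 0
      · exact Or.inl h0
      · rcases (hcsupp m χ hχ).1 h0 with e | e <;> subst e
        exacts [Or.inr (hcX m), Or.inr (hcY m)]
    rcases hcX l with e1 | e1 <;> rcases hcY l with e2 | e2 <;> rcases hb _ (hXτ l) with e3 | e3 | e3 <;>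
      rcases hb _ (hYτ l) with e4 | e4 | e4 <;> rw [e1, e2, e3, e4] at h' ⊢ <;> omega
  obtain ⟨E, hE⟩ : ∃ E, ∀ l, X l = E ∨ Y l = E := by
    refine star (by simpa [ι] using hg.four) X Y hXY (fun l m => ?_) fun l m hlm p q hp hq hp' hq' => ?_
    · rcases eq_or_ne l m with rfl | hlm
      · exact ⟨X l, Or.inl rfl, Or.inl rfl⟩
      · rcases hmeet l m hlm with ⟨h, -⟩ | ⟨h, -⟩
        · exact ⟨X l, Or.inl rfl, (hcsupp m _ (hXτ l)).1 (by rw [h]; rcases hcX l with e | e <;> omega)⟩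
        · exact ⟨Y l, Or.inr rfl, (hcsupp m _ (hYτ l)).1 (by rw [h]; rcases hcY l with e | e <;> omega)⟩
    · by_contra hpq
      have hXm : c m (X l) ≠ 0 ∧ c m (Y l) ≠ 0 := by
        rcases hp with rfl | rfl <;> rcases hq with rfl | rfl
        exacts [absurd rfl hpq, ⟨(hcsupp m _ (hXτ l)).2 hp', (hcsupp m _ (hYτ l)).2 hq'⟩,
          ⟨(hcsupp m _ (hXτ l)).2 hq', (hcsupp m _ (hYτ l)).2 hp'⟩, absurd rfl hpq]
      rcases hmeet l m hlm with ⟨-, h⟩ | ⟨-, h⟩
      exacts [hXm.2 h, hXm.1 h]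
  haveI : Nonempty ι := by
    obtain ⟨l, hl⟩ := Finset.card_pos.1 (show 0 < (Lam n).card by have := hg.four; omega)
    exact ⟨⟨l, hl⟩⟩
  obtain ⟨l₀⟩ := (inferInstance : Nonempty ι)
  have hEτ : E ≠ τ := by rcases hE l₀ with h | h <;> rw [← h]; exacts [hXτ l₀, hYτ l₀]
  -- the other row
  let Z : ι → IrrCharacter G := fun l => if X l = E then Y l else X l
  have hZ : ∀ l, Z l ≠ τ ∧ Z l ≠ E ∧ (X l = Z l ∨ Y l = Z l) := by
    intro l
    simp only [Z]
    split_ifs with h
    · exact ⟨hYτ l, fun e => hXY l (h.trans e.symm), Or.inr rfl⟩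
    · exact ⟨hXτ l, h, Or.inl rfl⟩
  have hpair : ∀ l (d : IrrCharacter G → ℂ), (c l (X l) : ℂ) * d (X l) + (c l (Y l) : ℂ) * d (Y l) =
      (c l E : ℂ) * d E + (c l (Z l) : ℂ) * d (Z l) := by
    intro l d
    simp only [Z]
    split_ifs with h
    · rw [h]
    · rw [(hE l).resolve_left h]; ring
  set s : ℤ := c l₀ E
  have hs : ∀ l, c l E = s := by
    intro l
    rcases eq_or_ne l l₀ with rfl | hl
    · rfl
    · have hne : c l E ≠ 0 := (hcsupp l E hEτ).2 (hE l)
      rcases hmeet l₀ l (Ne.symm hl) with ⟨h, h0⟩ | ⟨h, h0⟩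
      · rcases hE l₀ with e | e
        · show c l E = c l₀ E
          rw [← e]; exact h
        · rw [e] at h0; exact absurd h0 hne
      · rcases hE l₀ with e | e
        · rw [e] at h0; exact absurd h0 hne
        · show c l E = c l₀ E
          rw [← e]; exact h
  have hs1 : s = 1 ∨ s = -1 := by
    rcases hE l₀ with h | h
    · rw [show s = c l₀ (X l₀) by rw [h]]; exact hcX l₀
    · rw [show s = c l₀ (Y l₀) by rw [h]]; exact hcY l₀
  have hZ1 : ∀ l, c l (Z l) = 1 ∨ c l (Z l) = -1 := by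
    intro l
    rcases (hZ l).2.2 with h | h <;> rw [← h]
    exacts [hcX l, hcY l]
  have hZinj : Function.Injective Z := by
    intro l m h
    by_contra hlm
    have h1 : c m (Z l) ≠ 0 := (hcsupp m _ (hZ l).1).2 (h ▸ (hZ m).2.2)
    have h2 : c m E ≠ 0 := (hcsupp m _ hEτ).2 (hE m)
    rcases hmeet l m hlm with ⟨-, h0⟩ | ⟨-, h0⟩
    · rcases (hZ l).2.2 with e | e
      · rw [(hE l).resolve_left fun e' => (hZ l).2.1 (e.symm.trans e')] at h0; exact h2 h0
      · rw [e] at h0; exact h1 h0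
    · rcases (hZ l).2.2 with e | e
      · rw [e] at h0; exact h1 h0
      · rw [(hE l).resolve_right fun e' => (hZ l).2.1 (e.symm.trans e')] at h0; exact h2 h0
  -- values of the lifted functions
  have hval : ∀ (l : ι) (g : G),
      f l g = 1 + (s : ℂ) * (E : G → ℂ) g + (c l (Z l) : ℂ) * (Z l : G → ℂ) g := by
    intro l g
    conv_lhs => rw [classFunction_expansion (IsGenChar.classFun (hf l))]
    simp only [hc, Finset.sum_apply, Pi.smul_apply, smul_eq_mul]
    rw [← Finset.sum_subset (Finset.subset_univ ({τ, X l, Y l} : Finset _)) fun χ _ hχ => ?_,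
      Finset.sum_insert (by simpa using And.intro (hXτ l).symm (hYτ l).symm), Finset.sum_pair (hXY l), hcτ,
      hpair l fun χ => (χ : G → ℂ) g, hs]
    · rw [show (τ : G → ℂ) g = 1 from rfl]; push_cast; ring
    · rw [show c l χ = 0 by by_contra h; exact hχ (by simpa using honly l χ h)]; simp
  have hP : ∀ (l : ι) (p : (P : Subgroup G)), f l p = ((fw l.1 (D.co p) : ℤ) : ℂ) := by
    intro l p
    rw [show f l p = D.psi l.1 p from lift_eq (D.psi_stable _) p.2 ?_, D.psi_apply]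
    have : ppt 3 (p : G) = p := by
      conv_lhs => rw [← mul_one (p : G)]
      obtain ⟨k, hk⟩ := IsPGroup.iff_orderOf.1 P.isPGroup' p
      exact ppt_eq (Commute.one_right _) ⟨k, by rw [Subgroup.orderOf_coe, hk]⟩
        (by rw [orderOf_one]; exact Nat.prime_three.not_dvd_one)
    rw [this]
  have hdegE : ∀ l, 1 + s * (Invol.M12Ord.dg E : ℤ) + c l (Z l) * (Invol.M12Ord.dg (Z l) : ℤ) = 0 := by
    intro l
    have h := hval l 1
    rw [show f l 1 = ((fw l.1 (D.co 1) : ℤ) : ℂ) from hP l 1, D.co_one, fw_zero, Invol.M12Ord.value_one,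
      Invol.M12Ord.value_one] at h
    exact_mod_cast h.symm
  -- the column of `a`
  have haco : D.co a ≠ 0 := fun h => ha (D.co_eq_zero.1 h)
  set N := (Lam n).card
  have hι : ∀ F : Vec n → ℝ, ∑ l : ι, F l.1 = ∑ l ∈ Lam n, F l := fun F => Finset.sum_coe_sort (Lam n) F
  let k : ι → ℝ := fun l => ((fw l.1 (D.co a) - 1 : ℤ) : ℝ)
  have hk1 : ∑ l, k l = N + 1 := by
    simp only [k]
    rw [hι fun l => ((fw l (D.co a) - 1 : ℤ) : ℝ), ← Int.cast_sum, hg.lin _ haco]; push_cast; rfl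
  have hk2 : ∑ l, k l * k l = 3 ^ n + (N : ℝ) := by
    simp only [k, ← Int.cast_mul]
    rw [hι fun l => (((fw l (D.co a) - 1) * (fw l (D.co a) - 1) : ℤ) : ℝ), ← Int.cast_sum]
    have h := hg.quad _ haco
    have h' : ∑ l ∈ Lam n, (fw l (D.co a) - 1) * (fw l (D.co a) - 1) = 3 ^ n + (N : ℤ) := by linarith
    rw [h']; push_cast; rfl
  set ca : ℂ := (s : ℂ) * (E : G → ℂ) a
  have hssq : (s : ℂ) * s = 1 := by rcases hs1 with h | h <;> simp [h]
  have hzsq : ∀ l, (c l (Z l) : ℂ) * c l (Z l) = 1 := fun l => by rcases hZ1 l with h | h <;> simp [h]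
  have hZa : ∀ l, (Z l : G → ℂ) a = (c l (Z l) : ℂ) * ((k l : ℂ) - ca) := by
    intro l
    have h := hval l a
    rw [hP] at h
    calc (Z l : G → ℂ) a = (c l (Z l) : ℂ) * ((c l (Z l) : ℂ) * (Z l : G → ℂ) a) := by
          rw [← mul_assoc, hzsq, one_mul]
      _ = _ := by
          congr 1
          simp only [k, ca, Complex.ofReal_intCast]
          push_cast
          linear_combination -h
  set T : Finset (IrrCharacter G) := insert τ (insert E (Finset.univ.image Z))
  have hTsum : ∀ {M : Type} [AddCommMonoid M] (F : IrrCharacter G → M),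
      ∑ χ ∈ T, F χ = F τ + (F E + ∑ l, F (Z l)) := by
    intro M _ F
    rw [Finset.sum_insert, Finset.sum_insert, Finset.sum_image fun _ _ _ _ h => hZinj h]
    · simp only [Finset.mem_image, not_exists, Finset.mem_univ, true_and]
      exact fun l h => (hZ l).2.1 h
    · simp only [Finset.mem_insert, Finset.mem_image, not_or, not_exists, Finset.mem_univ, true_and]
      exact ⟨hEτ.symm, fun l h => (hZ l).1 h⟩
  have hcol : ∑ χ : IrrCharacter G, Complex.normSq ((χ : G → ℂ) a) = (3 : ℝ) ^ n := by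
    have h := sum_irr_mul_conj (a : G) a
    rw [if_pos (IsConj.refl _), hcard] at h
    simp only [Complex.mul_conj] at h
    rw [← Complex.ofReal_sum] at h
    have h' : ∑ χ : IrrCharacter G, Complex.normSq ((χ : G → ℂ) a) = ((3 ^ n : ℕ) : ℝ) := by exact_mod_cast h
    rw [h']; push_cast; ring
  have hnz : Complex.normSq (s : ℂ) = 1 := by rcases hs1 with h | h <;> simp [h]
  have hT : ∑ χ ∈ T, Complex.normSq ((χ : G → ℂ) a) = 3 ^ n + ((N : ℝ) + 1) * Complex.normSq (ca - 1) := by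
    rw [hTsum]
    have h1 : Complex.normSq ((E : G → ℂ) a) = Complex.normSq ca := by simp [ca, hnz]
    have h2 : ∀ l, Complex.normSq ((Z l : G → ℂ) a) = k l * k l - 2 * ca.re * k l + Complex.normSq ca := by
      intro l
      rw [hZa, map_mul, show Complex.normSq (c l (Z l) : ℂ) = 1 by rcases hZ1 l with h | h <;> simp [h], one_mul]
      simp [Complex.normSq_apply]
      ring
    rw [h1, Finset.sum_congr rfl fun l _ => h2 l, Finset.sum_add_distrib, Finset.sum_sub_distrib, ← Finset.mul_sum,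
      hk1, hk2, Finset.sum_const, Finset.card_univ, nsmul_eq_mul, show Fintype.card ι = N from Fintype.card_coe _,
      show (τ : G → ℂ) a = 1 from rfl]
    simp [Complex.normSq_apply]
    ring
  have hrest : ∑ χ ∈ Tᶜ, Complex.normSq ((χ : G → ℂ) a) + ((N : ℝ) + 1) * Complex.normSq (ca - 1) = 0 := by
    have h := Finset.sum_add_sum_compl T fun χ : IrrCharacter G => Complex.normSq ((χ : G → ℂ) a)
    linarith
  have hN1 : (0 : ℝ) < (N : ℝ) + 1 := by positivity
  have hr1 : (0 : ℝ) ≤ ∑ χ ∈ Tᶜ, Complex.normSq ((χ : G → ℂ) a) :=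
    Finset.sum_nonneg fun _ _ => Complex.normSq_nonneg _
  have hr2 := mul_nonneg hN1.le (Complex.normSq_nonneg (ca - 1))
  have hca1 : ca = 1 := by
    have : ((N : ℝ) + 1) * Complex.normSq (ca - 1) = 0 := by linarith
    rcases mul_eq_zero.1 this with h | h
    · linarith
    · exact sub_eq_zero.1 (Complex.normSq_eq_zero.1 h)
  have hzero : ∑ χ ∈ Tᶜ, Complex.normSq ((χ : G → ℂ) a) = 0 := by linarith
  have hout : ∀ χ, χ ∉ T → (χ : G → ℂ) a = 0 := fun χ hχ => Complex.normSq_eq_zero.1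
    ((Finset.sum_eq_zero_iff_of_nonneg fun _ _ => Complex.normSq_nonneg _).1 hzero χ
      (Finset.mem_compl.2 hχ))
  -- the column of `e`
  obtain ⟨ce, hce⟩ : ∃ ce : ℤ, (E : G → ℂ) e = ce := by
    refine IsChar.exists_int_of_fixed (IsIrr.isCharacter E.2) _ fun j hj => ?_
    have hd := orderOf_dvd_of_pow_eq_one he3
    rcases (Nat.dvd_prime Nat.prime_three).1 hd with h | h
    · rw [orderOf_eq_one_iff.1 h, one_pow]
    · rw [← Nat.div_add_mod j 3, pow_add, pow_mul, he3, one_pow, one_mul]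
      have : j % 3 = 1 ∨ j % 3 = 2 := by
        rw [h, Nat.coprime_comm, Nat.prime_three.coprime_iff_not_dvd] at hj
        omega
      rcases this with h' | h' <;> rw [h']
      · rw [pow_one]
      · refine IsClass.eq_of_isConj (IsIrr.classFun E.2) ?_
        rwa [show (e : G) ^ 2 = (e : G)⁻¹ from eq_inv_of_mul_eq_one_left (by rw [← pow_succ, he3])]
  set cc : ℤ := s * ce
  have hZe : ∀ l, (Z l : G → ℂ) e = (c l (Z l) : ℂ) * (((fw l.1 (D.co e) - 1 - cc : ℤ) : ℂ)) := by
    intro l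
    have h := hval l e
    rw [hP, hce] at h
    calc (Z l : G → ℂ) e = (c l (Z l) : ℂ) * ((c l (Z l) : ℂ) * (Z l : G → ℂ) e) := by
          rw [← mul_assoc, hzsq, one_mul]
      _ = _ := by
          congr 1
          simp only [cc]
          push_cast
          linear_combination -h
  have hEa : (E : G → ℂ) a = (s : ℂ) := by
    calc (E : G → ℂ) a = (s : ℂ) * ca := by rw [show ca = (s : ℂ) * (E : G → ℂ) a from rfl, ← mul_assoc, hssq, one_mul]
      _ = _ := by rw [hca1, mul_one]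
  have htri := Invol.M12Ord.triple (a : G) a e
  rw [show {y' : G | IsConj (a : G) y' ∧ IsConj ((a : G) * y') e} = ∅ from
    Set.eq_empty_of_forall_notMem fun y hy => by
      obtain ⟨g, rfl⟩ := isConj_iff.1 hy.1
      exact D.no_triangle a e ha3 he3 ha hind hca hker g hy.2] at htri
  simp only [Set.ncard_empty, Nat.cast_zero, zero_mul, mul_eq_zero, Nat.cast_eq_zero,
    Nat.card_pos.ne', false_or] at htri
  rw [← Finset.sum_subset (Finset.subset_univ T) fun χ _ hχ => by rw [hout χ hχ]; simp, hTsum] at htri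
  set u : ℤ := s * (Invol.M12Ord.dg E : ℤ)
  have hdE : 0 < Invol.M12Ord.dg E := charDeg_pos E
  have hu : u ≠ 0 := by rcases hs1 with h | h <;> simp [u, h] <;> omega
  have hu1 : 1 + u ≠ 0 := by
    intro h
    have h1 := hdegE l₀
    rw [h, zero_add] at h1
    have hd : 0 < Invol.M12Ord.dg (Z l₀) := charDeg_pos (Z l₀)
    rcases hZ1 l₀ with h' | h' <;> rw [h'] at h1 <;> omega
  have htermE : (E : G → ℂ) a * (E : G → ℂ) a * conj ((E : G → ℂ) e) / (E : G → ℂ) 1 = (cc : ℂ) / (u : ℂ) := by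
    rw [hEa, hce, map_intCast, Invol.M12Ord.value_one, hssq, one_mul]
    simp only [cc, u]
    push_cast
    rw [mul_div_mul_left _ _ (by intro h; simp [h] at hssq)]
  have htermZ : ∀ l, (Z l : G → ℂ) a * (Z l : G → ℂ) a * conj ((Z l : G → ℂ) e) / (Z l : G → ℂ) 1 =
      ((((fw l.1 (D.co a) - 2) * (fw l.1 (D.co a) - 2) * (fw l.1 (D.co e) - 1 - cc) : ℤ)) : ℂ) /
        (((-(1 + u)) : ℤ) : ℂ) := by
    intro l
    have hd : (((-(1 + u)) : ℤ) : ℂ) = (c l (Z l) : ℂ) * (Invol.M12Ord.dg (Z l) : ℂ) := by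
      have h := hdegE l
      rw [show (-(1 + u)) = c l (Z l) * (Invol.M12Ord.dg (Z l) : ℤ) by simp only [u]; linarith]
      push_cast; ring
    rw [hd, hZa, hZe, hca1, Invol.M12Ord.value_one, map_mul, map_intCast, map_intCast]
    simp only [k, Complex.ofReal_intCast]
    rcases hZ1 l with h' | h' <;> rw [h'] <;> push_cast <;> ring
  rw [show (τ : G → ℂ) a * (τ : G → ℂ) a * conj ((τ : G → ℂ) e) / (τ : G → ℂ) 1 = 1 by
    rw [show (τ : G → ℂ) a = 1 from rfl, show (τ : G → ℂ) e = 1 from rfl, show (τ : G → ℂ) 1 = 1 from rfl]; simp,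
    htermE, Finset.sum_congr rfl fun l _ => htermZ l, ← Finset.sum_div, ← Int.cast_sum] at htri
  have hsumZ : ∑ l : ι, (fw l.1 (D.co a) - 2) * (fw l.1 (D.co a) - 2) * (fw l.1 (D.co e) - 1 - cc) =
      K - A * cc := by
    rw [Finset.sum_coe_sort (Lam n) fun l => (fw l (D.co a) - 2) * (fw l (D.co a) - 2) * (fw l (D.co e) - 1 - cc)]
    simp only [mul_sub _ _ cc, Finset.sum_sub_distrib]
    rw [← Finset.sum_mul, hg.sq _ haco, hg.mixed _ _ haco hind]
  rw [hsumZ] at htri
  have huC : (u : ℂ) ≠ 0 := Int.cast_ne_zero.2 hu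
  have hu1C : (1 : ℂ) + (u : ℂ) ≠ 0 := by exact_mod_cast hu1
  have heq : u * (1 + u) + cc * (1 + u) - (K - A * cc) * u = 0 := by
    push_cast at htri
    field_simp at htri
    exact Int.cast_injective (α := ℂ) (by push_cast; linear_combination htri)
  have hcong : (3 : ℤ) ∣ cc - u := by
    obtain ⟨j, hj⟩ := IsPGroup.iff_orderOf.1 P.isPGroup' e
    have h := Invol.M12Ord.congr_deg (p := 3) E (g := (e : G)) (j := j) (by rw [Subgroup.orderOf_coe, hj]) hce
    simp only [cc, u, ← mul_sub]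
    exact Dvd.dvd.mul_left (by exact_mod_cast h) s
  have hu1' : u = 1 := hg.arith u cc hu heq hcong
  have hE1 : (E : G → ℂ) 1 = 1 := by
    rw [Invol.M12Ord.value_one]
    have : Invol.M12Ord.dg E = 1 := by rcases hs1 with h | h <;> simp only [u, h] at hu1' <;> omega
    rw [this, Nat.cast_one]
  obtain ⟨L, hL⟩ := linearHom_of_isCharacter (IsIrr.isCharacter E.2) hE1
  refine ⟨L.ker, inferInstance, fun htop => hEτ (Subtype.ext (funext fun g => ?_)), hgen.trans ?_⟩
  · rw [hL]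
    show ((L g : ℂˣ) : ℂ) = _
    rw [MonoidHom.mem_ker.1 (htop ▸ Subgroup.mem_top g)]
    rfl
  · refine (Subgroup.closure_le _).2 ?_
    rintro y ⟨q, -, rfl⟩
    exact MonoidHom.mem_ker.2 (by simp)

end Cfsg.Agent.Spor.L43Three.Inverted
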