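import Cfsg.Agent.Lib.Spor.NineQ.Common
import Cfsg.Agent.Lib.Spor.L43Three.Inverted.Def

/-!
The lifted functions `2 - λ - λ⁻¹`: generalised characters of norm three, two of which meet in two.
-/

open scoped ComplexConjugate

namespace Cfsg.Agent.Spor.L43Three.Inverted

open Cfsg Cfsg.Agent.Block Cfsg.Agent.Char Cfsg.Agent.Char.Star Cfsg.Agent.Char.SecInner Cfsg.Agent.Spor.NineQ

set_option linter.unusedSectionVars false
set_option linter.style.haveILetI false

universe u

variable {G : Type u} [Group G] [Fintype G]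

variable {P : Sylow 3 G} {n : ℕ}

/-- A linear character of the field with three elements. -/
noncomputable def omega : Multiplicative (ZMod 3) →* ℂˣ :=
  MonoidHom.toHomUnits (AddChar.toMonoidHom (ZMod.stdAddChar : AddChar (ZMod 3) ℂ))

theorem omega_sum {x : ZMod 3} (hx : x ≠ 0) :
    ((omega (Multiplicative.ofAdd x) : ℂˣ) : ℂ) + ((omega (Multiplicative.ofAdd (-x)) : ℂˣ) : ℂ) = -1 := by
  have hψ : (ZMod.stdAddChar : AddChar (ZMod 3) ℂ) ≠ 0 := fun h => by
    have h1 : (ZMod.stdAddChar : AddChar (ZMod 3) ℂ) 1 = 1 := by rw [h]; rfl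
    rw [← AddChar.map_zero_eq_one (ZMod.stdAddChar : AddChar (ZMod 3) ℂ)] at h1
    exact absurd (ZMod.injective_stdAddChar h1) (by decide)
  have hsum := AddChar.sum_eq_zero_iff_ne_zero.2 hψ
  rw [show (Finset.univ : Finset (ZMod 3)) = {0, x, -x} by
    have : ∀ x : ZMod 3, x ≠ 0 → (Finset.univ : Finset (ZMod 3)) = {0, x, -x} := by decide
    exact this x hx] at hsum
  have hne : x ≠ -x := by
    have : ∀ x : ZMod 3, x ≠ 0 → x ≠ -x := by decide
    exact this x hx
  rw [Finset.sum_insert (by simp [hx.symm, hx]), Finset.sum_pair hne, AddChar.map_zero_eq_one] at hsum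
  show (ZMod.stdAddChar : AddChar (ZMod 3) ℂ) x + (ZMod.stdAddChar : AddChar (ZMod 3) ℂ) (-x) = -1
  linear_combination hsum

theorem eq_zero_of_eq_neg : ∀ x : ZMod 3, x = -x → x = 0 := by decide

namespace Inv

variable (D : Inv P n)

/-- The function on the Sylow subgroup. -/
noncomputable def psi (l : Vec n) (v : G) : ℂ := by
  classical
  exact if h : v ∈ (P : Subgroup G) then ((fw l (D.co ⟨v, h⟩) : ℤ) : ℂ) else 0

theorem psi_apply (l : Vec n) (v : (P : Subgroup G)) : D.psi l v = ((fw l (D.co v) : ℤ) : ℂ) := by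
  simp [psi]

theorem psi_stable (l : Vec n) : Stable P (D.psi l) := by
  intro u hu v hv h
  rw [D.psi_apply l ⟨u, hu⟩, D.psi_apply l ⟨v, hv⟩]
  rcases D.co_fus (a := ⟨u, hu⟩) (b := ⟨v, hv⟩) h with e | e <;> rw [e]
  rw [fw_neg]

theorem psi_one (l : Vec n) : D.psi l 1 = 0 := by
  rw [show (1 : G) = ((1 : (P : Subgroup G)) : G) from rfl, D.psi_apply, D.co_one, fw_zero, Int.cast_zero]

theorem psi_genChar (l : Vec n) : IsGeneralizedCharacter G (lift P (D.psi l)) := by
  classical
  refine isGenChar_lift (D.psi_stable l) ?_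
  haveI := Fintype.ofFinite (P : Subgroup G)
  let χ : (P : Subgroup G) →* ℂˣ := omega.comp
    { toFun := fun p => Multiplicative.ofAdd (dot l (D.co p))
      map_one' := by rw [D.co_one]; simp [dot]
      map_mul' := fun p q => by rw [D.co_mul, dot_add]; rfl }
  have hinv : ∀ p, χ⁻¹ p = omega (Multiplicative.ofAdd (-dot l (D.co p))) := fun p => by
    rw [MonoidHom.inv_apply, MonoidHom.comp_apply, ← map_inv]; rfl
  have h : (fun v : (P : Subgroup G) => D.psi l v) = (fun _ => (1 : ℂ)) + (fun _ => (1 : ℂ)) -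
      (fun v => (χ v : ℂ)) - (fun v => (χ⁻¹ v : ℂ)) := by
    funext v
    simp only [D.psi_apply, Pi.sub_apply, Pi.add_apply]
    rw [hinv, show χ v = omega (Multiplicative.ofAdd (dot l (D.co v))) from rfl, fw]
    split_ifs with hx
    · rw [hx, neg_zero, ofAdd_zero, map_one]; push_cast; norm_num
    · have := omega_sum hx; push_cast; linear_combination this
  rw [h]
  exact IsGenChar.sub (IsGenChar.sub (IsGenChar.add (IsGenChar.of_isCharacter IsChar.one)
    (IsGenChar.of_isCharacter IsChar.one))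
    (IsGenChar.of_isCharacter (IsIrr.isCharacter (isIrr_linear χ))))
    (IsGenChar.of_isCharacter (IsIrr.isCharacter (isIrr_linear χ⁻¹)))

theorem t_conj_mem (a : (P : Subgroup G)) : D.t * (a : G) * D.t⁻¹ ∈ (P : Subgroup G) := D.t_norm a a.2

open Classical in
/-- The weight of a section outside the kernel, against the fusion count. -/
theorem weight (v : (P : Subgroup G)) (hv : D.φ v ≠ 1) :
    T 3 (v : G) (fun _ => (1 : ℂ)) (fun _ => 1) / (cnum P (v : G) : ℂ) =
      1 / (2 * (Nat.card (P : Subgroup G) : ℂ)) := by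
  haveI : Fact (Nat.Prime 3) := ⟨Nat.prime_three⟩
  obtain ⟨O, hOv, hOn, hO3, hdec⟩ := D.cent v hv
  haveI := Fintype.ofFinite (Subgroup.centralizer ({(v : G)} : Set G))
  set C := Subgroup.centralizer ({(v : G)} : Set G)
  have hC : ∀ {c : G}, c ∈ C ↔ Commute c v := Subgroup.mem_centralizer_singleton_iff
  have hord : ∃ k, orderOf (v : G) = 3 ^ k := by
    obtain ⟨k, hk⟩ := IsPGroup.iff_orderOf.1 P.isPGroup' v
    exact ⟨k, by rw [Subgroup.orderOf_coe, hk]⟩
  rw [T_eq_cent hord (fun _ _ => rfl) (fun _ _ => rfl)]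
  simp only [map_one, mul_one, Finset.sum_const, nsmul_eq_mul]
  -- the elements of order prime to three
  have hreg : (Finset.univ.filter fun c : C => ¬ 3 ∣ orderOf c).card = Nat.card O := by
    rw [← Fintype.card_subtype, ← Nat.card_eq_fintype_card]
    refine Nat.card_congr (Equiv.ofBijective (fun c => ⟨(c.1 : G), ?_⟩) ⟨fun c d h => ?_, fun o => ?_⟩)
    · obtain ⟨o, ho, p, hp, hpv, he⟩ := hdec c.1 (hC.1 c.1.2)
      obtain ⟨k, hk⟩ := P.isPGroup' ⟨p, hp⟩
      have hk' : p ^ 3 ^ k = 1 := by simpa using congrArg Subtype.val hk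
      have hpow : ∀ m : ℕ, ((c.1 : G)) ^ m * (p ^ m)⁻¹ ∈ O := by
        intro m
        induction m with
        | zero => simp
        | succ m ih =>
          have e : (c.1 : G) ^ (m + 1) * (p ^ (m + 1))⁻¹ = o * (p * ((c.1 : G) ^ m * (p ^ m)⁻¹) * p⁻¹) := by
            rw [pow_succ', pow_succ', he]; group
          rw [e]
          exact mul_mem ho (hOn p hpv _ ih)
      have h1 : (c.1 : G) ^ 3 ^ k ∈ O := by simpa [hk'] using hpow (3 ^ k)
      have hcop : (orderOf (c.1 : G)).Coprime (3 ^ k) := by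
        refine (Nat.Coprime.pow_right k ?_)
        rw [Subgroup.orderOf_coe, Nat.coprime_comm, Nat.prime_three.coprime_iff_not_dvd]
        exact c.2
      obtain ⟨m, hm⟩ := exists_pow_eq_self_of_coprime hcop.symm
      rw [← hm]; exact pow_mem h1 m
    · exact Subtype.ext (Subtype.ext (congrArg (fun x : O => (x : G)) h))
    · refine ⟨⟨⟨o, hC.2 (hOv o o.2)⟩, fun hd => ?_⟩, rfl⟩
      rw [Subgroup.orderOf_mk, Subgroup.orderOf_coe] at hd
      exact (Nat.prime_three.coprime_iff_not_dvd.1 hO3.symm) (hd.trans (orderOf_dvd_natCard o))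
  set CP := (P : Subgroup G) ⊓ C
  have hcard : Nat.card C = Nat.card O * Nat.card CP := by
    rw [← Nat.card_prod]
    refine (Nat.card_congr (Equiv.ofBijective
      (fun x : O × CP => (⟨x.1 * x.2, C.mul_mem (hC.2 (hOv _ x.1.2)) (Subgroup.mem_inf.1 x.2.2).2⟩ : C))
      ⟨?_, ?_⟩)).symm
    · rintro ⟨o, p⟩ ⟨o', p'⟩ h
      have h' : (o : G) * p = o' * p' := congrArg Subtype.val h
      have h1 : (o' : G)⁻¹ * o = p' * (p : G)⁻¹ := by
        rw [eq_mul_inv_iff_mul_eq, mul_assoc, h', inv_mul_cancel_left]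
      have h2 := RegCompl.disjoint (P := P) hO3 (mul_mem (inv_mem o'.2) o.2)
        (h1 ▸ mul_mem (Subgroup.mem_inf.1 p'.2).1 (inv_mem (Subgroup.mem_inf.1 p.2).1))
      rw [h2] at h1
      exact Prod.ext (Subtype.ext (inv_mul_eq_one.1 h2).symm) (Subtype.ext (mul_inv_eq_one.1 h1.symm).symm)
    · intro c
      obtain ⟨o, ho, p, hp, hpv, he⟩ := hdec c (hC.1 c.2)
      exact ⟨⟨⟨o, ho⟩, ⟨p, Subgroup.mem_inf.2 ⟨hp, hC.2 hpv⟩⟩⟩, Subtype.ext he.symm⟩
  have hcn : cnum P (v : G) * Nat.card CP = 2 * Nat.card (P : Subgroup G) := by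
    haveI := Fintype.ofFinite (P : Subgroup G)
    haveI := Fintype.ofFinite CP
    let F : ↥(P : Subgroup G) × Fin 2 → G := fun x =>
      if x.2 = 0 then (x.1 : G) * v * (x.1 : G)⁻¹ else (x.1 : G) * (D.t * v * D.t⁻¹) * (x.1 : G)⁻¹
    set S := Finset.univ.filter fun w : G => w ∈ (P : Subgroup G) ∧ IsConj (v : G) w
    have hmaps : ∀ x ∈ (Finset.univ : Finset (↥(P : Subgroup G) × Fin 2)), F x ∈ S := by
      rintro ⟨p, i⟩ -
      simp only [S, Finset.mem_filter, Finset.mem_univ, true_and, F]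
      split_ifs
      · exact ⟨mul_mem (mul_mem p.2 v.2) (inv_mem p.2), isConj_iff.2 ⟨p, rfl⟩⟩
      · exact ⟨mul_mem (mul_mem p.2 (D.t_conj_mem v)) (inv_mem p.2),
          isConj_iff.2 ⟨(p : G) * D.t, by group⟩⟩
    have hfib : ∀ w ∈ S, ((Finset.univ : Finset (↥(P : Subgroup G) × Fin 2)).filter fun x => F x = w).card =
        Nat.card CP := by
      intro w hw
      simp only [S, Finset.mem_filter, Finset.mem_univ, true_and] at hw
      obtain ⟨hwP, hwc⟩ := hw
      obtain ⟨g, hg⟩ := isConj_iff.1 hwc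
      obtain ⟨m, hm, hm'⟩ := D.fus v ⟨w, hwP⟩ hv g hg
      -- which side
      have side : ∀ x : ↥(P : Subgroup G) × Fin 2, F x = w →
          D.co ⟨w, hwP⟩ = if x.2 = 0 then D.co v else -D.co v := by
        rintro ⟨p, i⟩ hx
        simp only [F] at hx ⊢
        split_ifs at hx ⊢
        · rw [← D.co_conj v p]; exact congrArg D.co (Subtype.ext hx.symm)
        · rw [← D.co_t v, ← D.co_conj ⟨_, D.t_norm v v.2⟩ p]; exact congrArg D.co (Subtype.ext hx.symm)
      have hco : D.co v ≠ -D.co v := fun h => hv (D.co_eq_zero.1 (funext fun i => eq_zero_of_eq_neg _ (congrFun h i)))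
      obtain ⟨i₀, hi₀⟩ : ∃ i : Fin 2, F (⟨m, hm⟩, i) = w := by
        rcases hm' with h | h
        · exact ⟨0, by simpa [F] using h⟩
        · exact ⟨1, by simpa [F] using h⟩
      rw [Nat.card_eq_fintype_card, ← Finset.card_univ]
      let base : G := if i₀ = 0 then (v : G) else D.t * v * D.t⁻¹
      have hbase : ∀ p : (P : Subgroup G), F (p, i₀) = (p : G) * base * (p : G)⁻¹ := fun p => by
        simp only [F, base]; split_ifs <;> rfl
      have htv : ∀ c : G, c ∈ (P : Subgroup G) → Commute c v →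
          D.t * c * D.t⁻¹ ∈ (P : Subgroup G) ∧ Commute (D.t * c * D.t⁻¹) (D.t * v * D.t⁻¹) :=
        fun c hc h => ⟨D.t_norm c hc, h.map (MulAut.conj D.t).toMonoidHom⟩
      let corr : CP → (P : Subgroup G) := fun c =>
        if i₀ = 0 then ⟨c, (Subgroup.mem_inf.1 c.2).1⟩
        else ⟨D.t * c * D.t⁻¹, D.t_norm c (Subgroup.mem_inf.1 c.2).1⟩
      have hcorr : ∀ c : CP, Commute (corr c : G) base := fun c => by
        simp only [corr, base]
        split_ifs
        · exact hC.1 (Subgroup.mem_inf.1 c.2).2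
        · exact (htv c (Subgroup.mem_inf.1 c.2).1 (hC.1 (Subgroup.mem_inf.1 c.2).2)).2
      have hcinj : Function.Injective corr := fun a b h => by
        simp only [corr] at h
        split_ifs at h
        · exact Subtype.ext (congrArg (fun z : (P : Subgroup G) => (z : G)) h)
        · exact Subtype.ext (mul_right_cancel (mul_left_cancel (b := (a : G) * D.t⁻¹)
            (by rw [← mul_assoc, ← mul_assoc]; exact congrArg (fun z : (P : Subgroup G) => (z : G)) h)))
      refine (Finset.card_bij (fun c _ => ((⟨m, hm⟩ * corr c : (P : Subgroup G)), i₀)) (fun c _ => ?_)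
        (fun c _ c' _ h => hcinj (mul_left_cancel (congrArg Prod.fst h))) fun x hx => ?_).symm
      · refine Finset.mem_filter.2 ⟨Finset.mem_univ _, ?_⟩
        rw [hbase, ← hi₀, hbase]
        show m * (corr c : G) * base * (m * (corr c : G))⁻¹ = _
        rw [mul_assoc m, (hcorr c).eq]; group
      · obtain ⟨p, i⟩ := x
        have hxw := (Finset.mem_filter.1 hx).2
        have hii : i = i₀ := by
          have h1 := side _ hxw
          have h2 := side _ hi₀
          rw [h2] at h1
          by_contra hne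
          by_cases hi : i = 0
          · have hi' : i₀ ≠ 0 := fun e => hne (hi.trans e.symm)
            simp only [if_pos hi, if_neg hi'] at h1
            exact hco h1.symm
          · have hi' : i₀ = 0 := by omega
            simp only [if_neg hi, if_pos hi'] at h1
            exact hco h1
        subst hii
        rw [hbase] at hxw
        rw [hbase] at hi₀
        have hcb : Commute (m⁻¹ * (p : G)) base := by
          show m⁻¹ * (p : G) * base = base * (m⁻¹ * p)
          calc m⁻¹ * (p : G) * base = m⁻¹ * ((p : G) * base * (p : G)⁻¹) * p := by group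
            _ = base * (m⁻¹ * p) := by rw [hxw, ← hi₀]; simp [mul_assoc]
        by_cases hi : i = 0
        · have hb : base = v := if_pos hi
          refine ⟨⟨m⁻¹ * p, Subgroup.mem_inf.2 ⟨mul_mem (inv_mem hm) p.2, hC.2 (hb ▸ hcb)⟩⟩,
            Finset.mem_univ _, Prod.ext (Subtype.ext ?_) rfl⟩
          simp [corr, hi, mul_assoc]
        · have hb : base = D.t * v * D.t⁻¹ := if_neg hi
          have hk : D.t⁻¹ * (m⁻¹ * p) * D.t ∈ (P : Subgroup G) := by
            -- `t` permutes the finite Sylow subgroup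
            let tf : ↥(P : Subgroup G) → ↥(P : Subgroup G) := fun z => ⟨D.t * z * D.t⁻¹, D.t_norm z z.2⟩
            have : Function.Surjective tf := Finite.injective_iff_surjective.1 fun a b h =>
              Subtype.ext (mul_left_cancel (mul_right_cancel (congrArg Subtype.val h)))
            obtain ⟨z, hz⟩ := this ⟨m⁻¹ * p, mul_mem (inv_mem hm) p.2⟩
            have hz' : D.t * z * D.t⁻¹ = m⁻¹ * p := congrArg Subtype.val hz
            rw [← hz', show D.t⁻¹ * (D.t * z * D.t⁻¹) * D.t = (z : G) by group]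
            exact z.2
          have hkc : Commute (D.t⁻¹ * (m⁻¹ * (p : G)) * D.t) v := by
            rw [hb] at hcb
            have := hcb.map (MulAut.conj D.t⁻¹).toMonoidHom
            simp [MulAut.conj_apply, mul_assoc] at this ⊢
            exact this
          refine ⟨⟨_, Subgroup.mem_inf.2 ⟨hk, hC.2 hkc⟩⟩, Finset.mem_univ _, Prod.ext (Subtype.ext ?_) rfl⟩
          simp [corr, hi, mul_assoc]
    have := Finset.card_eq_sum_card_fiberwise hmaps
    rw [Finset.sum_congr rfl hfib, Finset.sum_const, smul_eq_mul, Finset.card_univ, Fintype.card_prod,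
      Fintype.card_fin, ← Nat.card_eq_fintype_card] at this
    rw [show cnum P (v : G) = S.card from rfl]
    linarith
  have hOne : (Nat.card O : ℂ) ≠ 0 := Nat.cast_ne_zero.2 Nat.card_pos.ne'
  have hcn0 : (cnum P (v : G) : ℂ) ≠ 0 := Nat.cast_ne_zero.2 fun h0 => by
    rw [h0, zero_mul] at hcn
    have := Nat.card_pos (α := (P : Subgroup G))
    omega
  have hPne : (Nat.card (P : Subgroup G) : ℂ) ≠ 0 := Nat.cast_ne_zero.2 Nat.card_pos.ne'
  have hCPne : (Nat.card CP : ℂ) ≠ 0 := Nat.cast_ne_zero.2 Nat.card_pos.ne'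
  rw [hreg, hcard, Nat.cast_mul]
  have hcn' : (cnum P (v : G) : ℂ) * (Nat.card CP : ℂ) = 2 * (Nat.card (P : Subgroup G) : ℂ) := by
    exact_mod_cast hcn
  field_simp
  linear_combination -hcn'

open Classical in
/-- Sums over the Sylow subgroup through the coordinates. -/
theorem sum_co (F : Vec n → ℂ) [Fintype (P : Subgroup G)] :
    ∑ v : (P : Subgroup G), F (D.co v) = (Nat.card D.φ.ker : ℂ) * ∑ w : Vec n, F w := by
  rw [← Finset.sum_fiberwise (Finset.univ : Finset (P : Subgroup G)) (fun v => D.co v), Finset.mul_sum]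
  refine Finset.sum_congr rfl fun w _ => ?_
  rw [Finset.sum_congr rfl (g := fun _ => F w) fun v hv => by rw [(Finset.mem_filter.1 hv).2], Finset.sum_const,
    nsmul_eq_mul]
  congr 2
  obtain ⟨v₀, hv₀⟩ := D.φ_surj (Multiplicative.ofAdd w)
  haveI := Fintype.ofFinite D.φ.ker
  rw [Nat.card_eq_fintype_card, ← Finset.card_univ]
  refine (Finset.card_bij (s := (Finset.univ : Finset D.φ.ker)) (fun k _ => v₀ * (k : ↥(P : Subgroup G)))
    (fun k _ => ?_) (fun a _ b _ h => Subtype.ext (mul_left_cancel h)) fun v hv => ?_).symm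
  · refine Finset.mem_filter.2 ⟨Finset.mem_univ _, ?_⟩
    rw [D.co_mul, D.co_eq_zero.2 (MonoidHom.mem_ker.1 k.2), add_zero, co, hv₀]; rfl
  · refine ⟨⟨v₀⁻¹ * v, MonoidHom.mem_ker.2 ?_⟩, Finset.mem_univ _, mul_inv_cancel_left _ _⟩
    rw [map_mul, map_inv, hv₀, inv_mul_eq_one]
    exact Multiplicative.toAdd.injective (Finset.mem_filter.1 hv).2.symm

theorem card_P [Fintype (P : Subgroup G)] : Nat.card (P : Subgroup G) = Nat.card D.φ.ker * 3 ^ n := by
  have h := Subgroup.card_mul_index D.φ.ker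
  rw [Subgroup.index_ker, MonoidHom.range_eq_top.2 D.φ_surj, Subgroup.card_top,
    Nat.card_congr Multiplicative.toAdd, Nat.card_fun, Nat.card_zmod, Nat.card_eq_fintype_card (α := Fin n),
    Fintype.card_fin] at h
  rw [← h]

open Classical in
/-- Inner products of functions supported outside the kernel. -/
theorem inner_eq {ψ' : G → ℂ} (h' : Stable P ψ') (l : Vec n) (F : Vec n → ℤ)
    (hF : ∀ v : (P : Subgroup G), ψ' v = ((F (D.co v) : ℤ) : ℂ)) :
    classInner (lift P (D.psi l)) (lift P ψ') =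
      ((∑ w : Vec n, fw l w * F w : ℤ) : ℂ) / (2 * 3 ^ n) := by
  haveI := Fintype.ofFinite (P : Subgroup G)
  rw [inner_lift_lift (D.psi_stable l) h', sum_sylow]
  have hterm : ∀ v : (P : Subgroup G), D.psi l v * conj (ψ' v) * T 3 (v : G) (fun _ => (1 : ℂ)) (fun _ => 1) /
      (cnum P (v : G) : ℂ) = ((fw l (D.co v) * F (D.co v) : ℤ) : ℂ) / (2 * (Nat.card (P : Subgroup G) : ℂ)) := by
    intro v
    rw [D.psi_apply, hF, map_intCast]
    by_cases hv : D.φ v = 1
    · rw [D.co_eq_zero.2 hv, fw_zero]; simp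
    · rw [mul_div_assoc, D.weight v hv]; push_cast; ring
  rw [Finset.sum_congr rfl fun v _ => hterm v, ← Finset.sum_div,
    D.sum_co (fun w => ((fw l w * F w : ℤ) : ℂ)), D.card_P]
  have hk : (Nat.card D.φ.ker : ℂ) ≠ 0 := Nat.cast_ne_zero.2 Nat.card_pos.ne'
  push_cast
  field_simp

theorem inner_psi {K A : ℤ} (hg : Good n K A) {l m : Vec n} (hl : l ∈ Lam n) (hm : m ∈ Lam n) :
    classInner (lift P (D.psi l)) (lift P (D.psi m)) = if l = m then 3 else 2 := by
  rw [D.inner_eq (D.psi_stable m) l (fw m) (D.psi_apply m), hg.pair l hl m hm]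
  split_ifs <;> push_cast <;> field_simp <;> norm_num

theorem inner_one {K A : ℤ} (hg : Good n K A) {l : Vec n} (hl : l ∈ Lam n) :
    classInner (lift P (D.psi l)) (trivialIrr G : G → ℂ) = 1 := by
  rw [← lift_const P, D.inner_eq (stable_one P) l (fun _ => 1) (fun _ => by simp)]
  simp only [mul_one]
  rw [hg.one l hl]
  push_cast; field_simp

end Inv

end Cfsg.Agent.Spor.L43Three.Inverted
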